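import Cfsg.Agent.Lib.Invol.BenderCover.Main
import Cfsg.Agent.S1141

/-!
# Lifts of commuting involutions in central extensions of Bender's groups

In a central extension of `SL₂(2ⁿ)` (`n ≥ 3`), `PSU₃(2ⁿ)` or `Sz(2ⁿ)` the lifts of two commuting involutions
commute. So two such lifts fail to commute only over `SL₂(4) ≅ A₅`.
-/

set_option autoImplicit false
set_option linter.unusedSectionVars false
set_option linter.style.haveILetI false

namespace Cfsg.Agent.Invol.BenderCover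

open Subgroup
open scoped commutatorElement

universe u v

/-- The commutator of two elements depends only on them modulo the centre and is additive when central. -/
theorem comm_mul_left {G : Type u} [Group G] {a b c : G} (hb : ∀ x : G, ⁅b, c⁆ * x = x * ⁅b, c⁆) :
    ⁅a * b, c⁆ = ⁅b, c⁆ * ⁅a, c⁆ := by
  have h1 : ⁅a * b, c⁆ = a * ⁅b, c⁆ * a⁻¹ * ⁅a, c⁆ := by simp [commutatorElement_def, mul_assoc]
  rw [h1, ← hb a, mul_inv_cancel_right]

theorem comm_eq_of_central {G : Type u} [Group G] {a c z w : G} (hz : ∀ x : G, z * x = x * z)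
    (hw : ∀ x : G, w * x = x * w) : ⁅z * a, w * c⁆ = ⁅a, c⁆ := by
  rw [commutatorElement_def, commutatorElement_def, mul_inv_rev, mul_inv_rev]
  calc z * a * (w * c) * (a⁻¹ * z⁻¹) * (c⁻¹ * w⁻¹)
      = z * (a * w) * c * a⁻¹ * (z⁻¹ * c⁻¹) * w⁻¹ := by group
    _ = z * (w * a) * c * a⁻¹ * (c⁻¹ * z⁻¹) * w⁻¹ := by
        rw [hw a, (show z⁻¹ * c⁻¹ = c⁻¹ * z⁻¹ from (Commute.inv_inv (hz c)).eq)]
    _ = z * w * (a * c * a⁻¹ * c⁻¹) * z⁻¹ * w⁻¹ := by group
    _ = a * c * a⁻¹ * c⁻¹ * (z * w) * z⁻¹ * w⁻¹ := by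
        rw [show z * w * (a * c * a⁻¹ * c⁻¹) = a * c * a⁻¹ * c⁻¹ * (z * w) by
          rw [mul_assoc z, hw, ← mul_assoc, hz, mul_assoc]]
    _ = a * c * a⁻¹ * c⁻¹ := by rw [hz w]; group

/-- A field of characteristic two with at least eight elements: an additive function to a group of exponent
two which is invariant under inversion and kills `1` vanishes. -/
theorem eq_one_of_inv_invariant {F : Type u} [Field F] [Fintype F] [CharP F 2] (h8 : 8 ≤ Fintype.card F)
    {A : Type v} [Group A] (φ : F → A) (hadd : ∀ a b, φ (a + b) = φ a * φ b) (hsq : ∀ a, φ a * φ a = 1)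
    (hinv : ∀ a, a ≠ 0 → φ a⁻¹ = φ a) (a : F) : φ a = 1 := by
  classical
  have h0 : φ 0 = 1 := by
    have := hadd 0 0
    rw [add_zero] at this
    exact left_eq_mul.1 this
  have hcomm : ∀ a b, φ a * φ b = φ b * φ a := fun a b => by rw [← hadd, ← hadd, add_comm]
  -- Hua's identity
  have hua : ∀ a b : F, a ≠ 0 → b ≠ 0 → a * b ≠ 1 → φ (a * a * b) = φ a * φ b := by
    intro a b ha hb hab
    have h2 : (2 : F) = 0 := CharTwo.two_eq_zero
    have hc : b⁻¹ + a ≠ 0 := fun e => hab (by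
      have : b * (b⁻¹ + a) = 0 := by rw [e, mul_zero]
      rw [mul_add, mul_inv_cancel₀ hb] at this
      linear_combination this - h2)
    have hd : a⁻¹ + (b⁻¹ + a)⁻¹ ≠ 0 := fun e => by
      have : a⁻¹ = (b⁻¹ + a)⁻¹ := by linear_combination e - (b⁻¹ + a)⁻¹ * h2
      have : a = b⁻¹ + a := inv_injective this
      exact inv_ne_zero hb (by linear_combination -this)
    have hne : 1 + a * b ≠ 0 := fun e => hab (by linear_combination e - h2)
    have key : a * a * b = a + (a⁻¹ + (b⁻¹ + a)⁻¹)⁻¹ := by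
      have e1 : a⁻¹ + (b⁻¹ + a)⁻¹ = b⁻¹ / (a * (b⁻¹ + a)) := by
        field_simp
        linear_combination a * b * h2
      rw [e1, inv_div]
      field_simp
      linear_combination (-1 : F) * h2
    rw [key, hadd, hinv _ hd, hadd, hinv _ hc, hadd, hinv _ hb, hinv a ha, hcomm b a]
    calc φ a * (φ a * (φ a * φ b)) = φ a * φ a * (φ a * φ b) := by group
      _ = φ a * φ b := by rw [hsq, one_mul]
  by_cases ha : a = 0
  · rw [ha, h0]
  obtain ⟨b, hb, c, hc, hbc⟩ : ∃ b, b ∉ ({0, a⁻¹} : Finset F) ∧ ∃ c, c ∉ ({0, a⁻¹, b, b + a⁻¹} : Finset F) ∧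
      b + c ∉ ({0, a⁻¹} : Finset F) := by
    obtain ⟨b, -, hb⟩ := Finset.exists_mem_notMem_of_card_lt_card (s := ({0, a⁻¹} : Finset F))
      (t := Finset.univ) (by have := Finset.card_le_two (a := (0 : F)) (b := a⁻¹); rw [Finset.card_univ]; omega)
    obtain ⟨c, -, hc⟩ := Finset.exists_mem_notMem_of_card_lt_card (s := ({0, a⁻¹, b, b + a⁻¹} : Finset F))
      (t := Finset.univ) (by
        have := Finset.card_le_four (a := (0 : F)) (b := a⁻¹) (c := b) (d := b + a⁻¹)
        rw [Finset.card_univ]; omega)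
    refine ⟨b, hb, c, hc, ?_⟩
    simp only [Finset.mem_insert, Finset.mem_singleton, not_or] at hc ⊢
    refine ⟨fun e => hc.2.2.1 ?_, fun e => hc.2.2.2 ?_⟩
    · rw [← sub_eq_zero, CharTwo.sub_eq_add, add_comm, e]
    · rw [← e, ← add_assoc, CharTwo.add_self_eq_zero, zero_add]
  simp only [Finset.mem_insert, Finset.mem_singleton, not_or] at hb hc hbc
  have hne : ∀ x : F, x ≠ a⁻¹ → a * x ≠ 1 := fun x hx e => hx (eq_inv_of_mul_eq_one_right e)
  have h1 := hua a _ ha hbc.1 (hne _ hbc.2)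
  rw [mul_add, hadd, hadd, hua a b ha hb.1 (hne _ hb.2), hua a c ha hc.1 (hne _ hc.2.1)] at h1
  have h2 : φ a * φ b * (φ a * φ c) = φ b * φ c := by
    rw [hcomm a b]
    calc φ b * φ a * (φ a * φ c) = φ b * (φ a * φ a) * φ c := by group
      _ = φ b * φ c := by rw [hsq, mul_one]
  rw [h2] at h1
  exact mul_eq_right.1 h1.symm

section General

variable {G : Type u} [Group G] {Q : Type v} [Group Q] {π : G →* Q}

theorem comm_central (hker : ∀ g, π g = 1 → ∀ x : G, g * x = x * g) {x y : G}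
    (h : π x * π y = π y * π x) (z : G) : ⁅x, y⁆ * z = z * ⁅x, y⁆ :=
  hker _ (by rw [map_commutatorElement, commutatorElement_eq_one_iff_mul_comm.2 h]) z

theorem lift_eq (hker : ∀ g, π g = 1 → ∀ x : G, g * x = x * g) {a b : G} (h : π a = π b) :
    ∃ z : G, (∀ x : G, z * x = x * z) ∧ a = z * b :=
  ⟨a * b⁻¹, hker _ (by rw [map_mul, map_inv, h, mul_inv_cancel]), (inv_mul_cancel_right a b).symm⟩

/-- Commutators of lifts depend only on the images. -/
theorem comm_congr (hker : ∀ g, π g = 1 → ∀ x : G, g * x = x * g) {a a' b b' : G} (ha : π a = π a')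
    (hb : π b = π b') : ⁅a, b⁆ = ⁅a', b'⁆ := by
  obtain ⟨z, hz, rfl⟩ := lift_eq hker ha
  obtain ⟨w, hw, rfl⟩ := lift_eq hker hb
  exact comm_eq_of_central hz hw

/-- Two commuting involutions lie in a conjugate of a subgroup containing the involutions of a Sylow subgroup. -/
theorem exists_conj_into [Finite Q] {Pb W : Subgroup Q} (hp : IsPGroup 2 Pb) (hi : ¬ 2 ∣ Pb.index)
    (hinv : ∀ x ∈ Pb, x * x = 1 → x ∈ W) {a b : Q} (ha : a * a = 1) (hb : b * b = 1) (hab : a * b = b * a) :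
    ∃ g : Q, g * a * g⁻¹ ∈ W ∧ g * b * g⁻¹ ∈ W := by
  haveI : Fact (Nat.Prime 2) := ⟨Nat.prime_two⟩
  have hE : IsPGroup 2 ↥(Subgroup.closure ({a, b} : Set Q)) := by
    have hcomm : IsMulCommutative ↥(Subgroup.closure ({a, b} : Set Q)) :=
      Subgroup.isMulCommutative_closure (by
        rintro x (rfl | rfl) y (rfl | rfl) <;> first | rfl | exact hab | exact hab.symm)
    intro x
    refine ⟨1, Subtype.ext ?_⟩
    rw [pow_one, SubmonoidClass.coe_pow, OneMemClass.coe_one, pow_two]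
    obtain ⟨x, hx⟩ := x
    show x * x = 1
    induction hx using Subgroup.closure_induction with
    | mem y hy => rcases hy with rfl | rfl <;> assumption
    | one => exact one_mul 1
    | mul y z hy hz iy iz =>
      have h : y * z = z * y := congrArg Subtype.val (hcomm.is_comm.comm ⟨y, hy⟩ ⟨z, hz⟩)
      calc y * z * (y * z) = y * (z * y) * z := by group
        _ = y * (y * z) * z := by rw [← h]
        _ = y * y * (z * z) := by group
        _ = 1 := by rw [iy, iz, one_mul]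
    | inv y hy iy => rw [← mul_inv_rev, iy, inv_one]
  obtain ⟨R, hR⟩ := hE.exists_le_sylow
  obtain ⟨g, hg⟩ := MulAction.exists_smul_eq Q R (hp.toSylow hi)
  have hmem : ∀ x ∈ Subgroup.closure ({a, b} : Set Q), g * x * g⁻¹ ∈ Pb := fun x hx => by
    have h1 : g * x * g⁻¹ ∈ (g • R : Sylow 2 Q) := ⟨x, hR hx, rfl⟩
    rw [hg] at h1
    exact h1
  refine ⟨g, hinv _ (hmem a (subset_closure (Set.mem_insert _ _))) ?_,
    hinv _ (hmem b (subset_closure (Set.mem_insert_of_mem _ rfl))) ?_⟩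
  · rw [conj_mul, ha, mul_one, mul_inv_cancel]
  · rw [conj_mul, hb, mul_one, mul_inv_cancel]

/-- Conjugating back from `W`. -/
theorem comm_eq_one_of_W (hπ : Function.Surjective π) {W : Subgroup Q}
    (hW : ∀ x y : G, π x ∈ W → π y ∈ W → x * y = y * x) {x y : G} {g : Q} (hx : g * π x * g⁻¹ ∈ W)
    (hy : g * π y * g⁻¹ ∈ W) : x * y = y * x := by
  obtain ⟨g, rfl⟩ := hπ g
  have h1 := hW (g * x * g⁻¹) (g * y * g⁻¹) (by simpa using hx) (by simpa using hy)
  rw [conj_mul, conj_mul] at h1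
  exact mul_left_cancel (mul_right_cancel h1)

/-- When a Sylow subgroup is not abelian the lifts commute. -/
theorem commute_of_torusSylow [Finite Q] (hπ : Function.Surjective π)
    (hker : ∀ g, π g = 1 → ∀ x : G, g * x = x * g) (hQ : TorusSylow Q) (P₀ : Sylow 2 Q)
    (hnab : ¬ IsMulCommutative ↥(P₀ : Subgroup Q)) {x y : G} (hx : π x * π x = 1) (hy : π y * π y = 1)
    (hxy : π x * π y = π y * π x) : x * y = y * x := by
  haveI : Fact (Nat.Prime 2) := ⟨Nat.prime_two⟩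
  obtain ⟨Pb, W, hp, hi, hWP, -, hWc, hinv, hcomm, -, htr, -⟩ := hQ
  set P : Sylow 2 Q := hp.toSylow hi with hP
  -- a non-trivial commutator
  obtain ⟨c, hcW, hc1, hcd⟩ : ∃ c ∈ W, c ≠ 1 ∧ c ∈ ⁅Pb, Pb⁆ := by
    by_contra hno
    push Not at hno
    refine hnab ⟨⟨fun p q => ?_⟩⟩
    obtain ⟨g, hg⟩ := MulAction.exists_smul_eq Q P₀ P
    have hmem : ∀ p : ↥(P₀ : Subgroup Q), g * (p : Q) * g⁻¹ ∈ Pb := fun p => by
      have h1 : g * (p : Q) * g⁻¹ ∈ (g • P₀ : Sylow 2 Q) := ⟨p, p.2, rfl⟩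
      rw [hg] at h1
      exact h1
    have h2 : g * (p : Q) * g⁻¹ * (g * q * g⁻¹) = g * q * g⁻¹ * (g * p * g⁻¹) := by
      refine commutatorElement_eq_one_iff_mul_comm.1 (by_contra fun hne =>
        hno _ (hcomm _ (hmem p) _ (hmem q)) hne (commutator_mem_commutator (hmem p) (hmem q)))
    rw [conj_mul, conj_mul] at h2
    exact Subtype.ext (mul_left_cancel (mul_right_cancel h2))
  -- `W` lies in the derived subgroup of `Pb`
  have hWd : W ≤ ⁅Pb, Pb⁆ := by
    intro b hb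
    by_cases hb1 : b = 1
    · rw [hb1]; exact one_mem _
    obtain ⟨g, hg⟩ := htr c hcW b hb hc1 hb1
    have hcen : ∀ w ∈ W, w ∈ centralizer ((P : Subgroup Q) : Set Q) := fun w hw =>
      mem_centralizer_iff.2 fun s hs => (hWc w hw s hs).symm
    obtain ⟨n, hn, he⟩ := Sylow.conj_eq_normalizer_conj_of_mem_centralizer P c g⁻¹ (hcen c hcW)
      (by rw [inv_inv, hg]; exact hcen b hb)
    rw [inv_inv, hg] at he
    have hn' : Pb.map (MulAut.conj n⁻¹).toMonoidHom = Pb :=
      mem_normalizer_iff_map_conj_eq.1 (inv_mem hn)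
    rw [← hn', ← map_commutator, he]
    exact ⟨c, hcd, by simp⟩
  -- the lifts of `W` commute with the commutators of the lifts of `Pb`
  set K := Pb.comap π with hK
  have hKd : ⁅Pb, Pb⁆ = ⁅K, K⁆.map π := by
    rw [map_commutator, hK, map_comap_eq_self_of_surjective hπ]
  have hW : ∀ x y : G, π x ∈ W → π y ∈ W → x * y = y * x := by
    intro a b ha hb
    have hle : ⁅K, K⁆ ≤ centralizer ({a} : Set G) := by
      rw [commutator_le]
      intro p hp' q hq
      have hwp : ∀ p ∈ K, π (a * p * a⁻¹) = π p := fun p hp' => by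
        rw [map_mul, map_mul, map_inv, hWc _ ha _ hp', mul_inv_cancel_right]
      have h1 : a * ⁅p, q⁆ * a⁻¹ = ⁅p, q⁆ := by
        refine Eq.trans ?_ (comm_congr hker (hwp p hp') (hwp q hq))
        simp [commutatorElement_def, mul_assoc]
      exact mem_centralizer_singleton_iff.2 (mul_inv_eq_iff_eq_mul.1 h1).symm
    obtain ⟨d, hd, hdb⟩ := (hKd ▸ hWd hb : π b ∈ ⁅K, K⁆.map π)
    obtain ⟨z, hz, rfl⟩ := lift_eq hker hdb.symm
    have h1 : d * a = a * d := mem_centralizer_singleton_iff.1 (hle hd)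
    rw [← mul_assoc, ← hz a, mul_assoc, ← h1, mul_assoc]
  obtain ⟨g, hgx, hgy⟩ := exists_conj_into hp hi hinv hx hy hxy
  exact comm_eq_one_of_W hπ hW hgx hgy

end General

section Linear

open Matrix Cfsg.Agent.Grp.SL2

variable {G : Type u} [Group G] {F : Type v} [Field F] [Fintype F]

local notation "SL₂" => Matrix.SpecialLinearGroup (Fin 2) F

/-- Over `SL₂(2ⁿ)`, `n ≥ 3`. -/
theorem commute_sl [CharP F 2] (h8 : 8 ≤ Fintype.card F) {π : G →* SL₂} (hπ : Function.Surjective π)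
    (hker : ∀ g, π g = 1 → ∀ x : G, g * x = x * g) {x y : G} (hx : π x * π x = 1) (hy : π y * π y = 1)
    (hxy : π x * π y = π y * π x) : x * y = y * x := by
  classical
  obtain ⟨W, hW⟩ : ∃ W : Subgroup SL₂, ∀ g, g ∈ W ↔ ∃ t : F, g = up t :=
    ⟨{ carrier := {g | ∃ t : F, g = up t}
       one_mem' := ⟨0, up_zero.symm⟩
       mul_mem' := by rintro _ _ ⟨s, rfl⟩ ⟨t, rfl⟩; exact ⟨s + t, up_mul s t⟩
       inv_mem' := by
        rintro _ ⟨s, rfl⟩
        exact ⟨-s, inv_eq_of_mul_eq_one_right (by rw [up_mul, add_neg_cancel, up_zero])⟩ },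
      fun _ => Iff.rfl⟩
  have hinj : ∀ s t : F, (up s : SL₂) = up t → s = t := fun s t h => by
    have := congrFun (congrFun (congrArg Subtype.val h) 0) 1
    simpa [up] using this
  have hcard : Nat.card ↥W = Fintype.card F := by
    rw [← Nat.card_eq_fintype_card (α := F)]
    refine (Nat.card_eq_of_bijective (fun t : F => (⟨up t, (hW _).2 ⟨t, rfl⟩⟩ : ↥W))
      ⟨fun s t h => hinj s t (congrArg Subtype.val h), fun g => ?_⟩).symm
    obtain ⟨t, ht⟩ := (hW g).1 g.2
    exact ⟨t, Subtype.ext ht.symm⟩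
  obtain ⟨n, -, hn⟩ := FiniteField.card F 2
  have hp : IsPGroup 2 ↥W := IsPGroup.of_card (hcard.trans hn)
  have hidx : ¬ 2 ∣ W.index := by
    have h1 := W.card_mul_index
    rw [hcard, Lie.SympWreath.natCard_SL2] at h1
    rw [Nat.eq_of_mul_eq_mul_left Fintype.card_pos h1]
    have h2 : Even (Fintype.card F ^ 2) := by
      rw [hn, ← pow_mul]; exact Nat.even_pow.2 ⟨even_two, by positivity⟩
    have h3 : Odd (Fintype.card F ^ 2 - 1) :=
      Nat.Even.sub_odd (Nat.one_le_pow _ _ Fintype.card_pos) h2 odd_one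
    exact fun h => (Nat.not_even_iff_odd.2 h3) (even_iff_two_dvd.2 h)
  -- lifts of the root group
  choose l hl using fun t : F => hπ (up t)
  have hcm : ∀ s t : F, π (l s) * π (l t) = π (l t) * π (l s) := fun s t => by
    rw [hl, hl]; exact (commute_up s t).eq
  have hc : ∀ s t : F, ∀ z : G, ⁅l s, l t⁆ * z = z * ⁅l s, l t⁆ := fun s t => comm_central hker (hcm s t)
  have hsq : ∀ s t : F, ⁅l s, l t⁆ * ⁅l s, l t⁆ = 1 := fun s t => by
    have h2 : π (l s * l s) = 1 := by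
      rw [map_mul, hl, up_mul, CharTwo.add_self_eq_zero, up_zero]
    rw [← comm_mul_left (hc s t), commutatorElement_eq_one_iff_mul_comm]
    exact hker _ h2 _
  have hswap : ∀ s t : F, ⁅l s, l t⁆ = ⁅l t, l s⁆ := fun s t => by
    rw [← commutatorElement_inv (l t) (l s)]
    exact inv_eq_of_mul_eq_one_left (hsq t s)
  -- the torus
  have htor : ∀ a : F, a ≠ 0 → ∀ s t : F, ⁅l (a * s), l (a * t)⁆ = ⁅l s, l t⁆ := by
    intro a ha s t
    obtain ⟨r, hr⟩ := FiniteField.isSquare_of_char_two (ringChar.eq F 2) a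
    have hr0 : r ≠ 0 := fun h => ha (by rw [hr, h, mul_zero])
    obtain ⟨k, hk⟩ := hπ ⟨!![r, 0; 0, r⁻¹], by simp [Matrix.det_fin_two, mul_inv_cancel₀ hr0]⟩
    have hconj : ∀ s : F, π (k * l s * k⁻¹) = π (l (a * s)) := fun s => by
      rw [map_mul, map_mul, map_inv, hl, hl, hk]
      erw [conj_up (g := (⟨!![r, 0; 0, r⁻¹], by simp [Matrix.det_fin_two, mul_inv_cancel₀ hr0]⟩ : SL₂)) rfl]
      simp [pow_two, hr]
    rw [← comm_congr hker (hconj s) (hconj t)]
    calc ⁅k * l s * k⁻¹, k * l t * k⁻¹⁆ = k * ⁅l s, l t⁆ * k⁻¹ := by simp [commutatorElement_def, mul_assoc]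
      _ = ⁅l s, l t⁆ := by rw [← hc s t k, mul_inv_cancel_right]
  have hφ : ∀ t : F, ⁅l 1, l t⁆ = 1 := by
    refine eq_one_of_inv_invariant h8 (fun t => ⁅l 1, l t⁆) (fun a b => ?_) (fun a => hsq 1 a) fun a ha => ?_
    · have h1 : π (l (a + b)) = π (l a * l b) := by rw [map_mul, hl, hl, hl, up_mul]
      rw [comm_congr hker rfl h1, commutatorElement_def, commutatorElement_def, commutatorElement_def]
      calc l 1 * (l a * l b) * (l 1)⁻¹ * (l a * l b)⁻¹
          = l 1 * l a * (l 1)⁻¹ * (l 1 * l b * (l 1)⁻¹ * (l b)⁻¹) * (l a)⁻¹ := by group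
        _ = l 1 * l a * (l 1)⁻¹ * (l a)⁻¹ * (l 1 * l b * (l 1)⁻¹ * (l b)⁻¹) := by
          rw [mul_assoc _ (l 1 * l b * (l 1)⁻¹ * (l b)⁻¹), ← commutatorElement_def (l 1) (l b), hc 1 b, ← mul_assoc]
    · rw [← htor a ha 1 a⁻¹, mul_one, mul_inv_cancel₀ ha, hswap]
  have hWcomm : ∀ x y : G, π x ∈ W → π y ∈ W → x * y = y * x := by
    intro a b ha hb
    obtain ⟨s, hs⟩ := (hW _).1 ha
    obtain ⟨t, ht⟩ := (hW _).1 hb
    refine commutatorElement_eq_one_iff_mul_comm.1 ?_
    rw [comm_congr hker (hs.trans (hl s).symm) (ht.trans (hl t).symm)]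
    by_cases h0 : s = 0
    · refine commutatorElement_eq_one_iff_mul_comm.2 (hker _ ?_ _)
      rw [hl, h0, up_zero]
    · have := htor s h0 1 (t / s)
      rw [mul_one, mul_div_cancel₀ _ h0, hφ] at this
      exact this
  obtain ⟨g, hgx, hgy⟩ := exists_conj_into hp hidx (fun x hx _ => hx) hx hy hxy
  exact comm_eq_one_of_W hπ hWcomm hgx hgy

end Linear

/-- Lifts of commuting involutions commute in a central extension of a Bender group other than `SL₂(4)`. -/
theorem commute_or_four {G : Type u} [Group G] {Q : Type v} [Group Q] [Finite Q] (π : G →* Q)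
    (hπ : Function.Surjective π) (hker : ∀ g, π g = 1 → ∀ x : G, g * x = x * g)
    (hQ : (∃ (F : Type) (_ : Field F) (_ : Fintype F), CharP F 2 ∧ 4 ≤ Fintype.card F ∧
        Nonempty (Q ≃* Matrix.SpecialLinearGroup (Fin 2) F)) ∨
      (∃ (F : Type) (_ : Field F) (_ : Fintype F) (q : ℕ), Even q ∧ 4 ≤ q ∧
        Fintype.card F = q ^ 2 ∧ Nonempty (Q ≃* Cfsg.PSU 3 F q)) ∨
      Cfsg.Lie.IsoSuzuki Q)
    {x y : G} (hx : π x * π x = 1) (hy : π y * π y = 1) (hxy : π x * π y = π y * π x) :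
    x * y = y * x ∨ ∃ (F : Type) (_ : Field F) (_ : Fintype F), Fintype.card F = 4 ∧
      Nonempty (Q ≃* Matrix.SpecialLinearGroup (Fin 2) F) := by
  haveI : Fact (Nat.Prime 2) := ⟨Nat.prime_two⟩
  have htor := torusSylow_bender hQ
  have hnab : ∀ {R : Type} [Group R] (_ : Q ≃* R) (P : Subgroup R), IsPGroup 2 P →
      ¬ IsMulCommutative ↥P → x * y = y * x := by
    intro R _ e P hP hne
    obtain ⟨T, hT⟩ := (hP.map (e.symm.toMonoidHom)).exists_le_sylow
    refine commute_of_torusSylow hπ hker htor T (fun hc => hne ⟨⟨fun p q => Subtype.ext (e.symm.injective ?_)⟩⟩)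
      hx hy hxy
    rw [Subgroup.coe_mul, Subgroup.coe_mul, map_mul, map_mul]
    exact congrArg Subtype.val (hc.is_comm.comm (⟨_, hT (mem_map_of_mem _ p.2)⟩ : ↥(T : Subgroup Q))
      ⟨_, hT (mem_map_of_mem _ q.2)⟩)
  rcases hQ with ⟨F, i1, i2, hc, h4, ⟨e⟩⟩ | ⟨F, i1, i2, q, hq, h4, hF, ⟨e⟩⟩ | ⟨F, i1, i2, m, hm, hF, ⟨e⟩⟩
  · haveI := hc
    by_cases h8 : 8 ≤ Fintype.card F
    · left
      exact commute_sl h8 (π := e.toMonoidHom.comp π) (e.surjective.comp hπ)
        (fun g hg => hker g (e.map_eq_one_iff.1 hg))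
        (by simpa using congrArg e hx) (by simpa using congrArg e hy) (by simpa using congrArg e hxy)
    · refine Or.inr ⟨F, i1, i2, ?_, ⟨e⟩⟩
      obtain ⟨n, -, hn⟩ := FiniteField.card F 2
      have : (n : ℕ) < 3 := (Nat.pow_lt_pow_iff_right (by norm_num : 1 < 2)).1 (by rw [← hn]; omega)
      interval_cases h : (n : ℕ) <;> omega
  · left
    obtain ⟨p, hp⟩ := CharP.exists F
    haveI : Fact p.Prime := ⟨CharP.char_is_prime F p⟩
    obtain ⟨k, hk, hk'⟩ := FiniteField.card F p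
    obtain rfl : p = 2 := Cfsg.Agent.Dickson.p_eq_two p (by rw [hF]; exact hq.pow_of_ne_zero two_ne_zero)
    obtain ⟨j, -, rfl⟩ := (Nat.dvd_prime_pow Nat.prime_two).1
      (show q ∣ 2 ^ (k : ℕ) from hk' ▸ hF ▸ dvd_pow_self q two_ne_zero)
    have hj : 2 ≤ j := by
      by_contra hj
      interval_cases j <;> simp at h4
    obtain ⟨T⟩ : Nonempty (Sylow 2 (Cfsg.PSU 3 F (2 ^ j))) := inferInstance
    refine hnab e T T.isPGroup' fun hcom => ?_
    obtain ⟨h1, h2, -⟩ := Cfsg.Agent.S1141.result hj hF T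
    have h3 : Subgroup.center ↥(T : Subgroup (Cfsg.PSU 3 F (2 ^ j))) = ⊤ :=
      eq_top_iff.2 fun a _ => Subgroup.mem_center_iff.2 fun b => hcom.is_comm.comm b a
    rw [h3, card_top] at h2
    have h4' := h1.symm.trans h2
    have : 2 ^ j < (2 ^ j) ^ 3 := lt_self_pow₀ (by omega) (by norm_num)
    omega
  · left
    have hS : Suz.SzField F m := ⟨hm, hF⟩
    refine hnab (e.trans (Suz.szEquiv hS).symm) (Suz.unip hS) (Suz.isPGroup_unip hS) fun hcom => ?_
    have h1 : (⟨Suz.uS hS 1 0, (Suz.mem_unip hS).2 ⟨_, _, rfl⟩⟩ : Suz.unip hS) ∈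
        Subgroup.center (Suz.unip hS) := Subgroup.mem_center_iff.2 fun g => hcom.is_comm.comm _ _
    obtain ⟨b, hb⟩ := (Suz.center_unip_iff hS _).1 h1
    exact one_ne_zero (Suz.uS_injective hS hb).1

end Cfsg.Agent.Invol.BenderCover
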