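import Cfsg.Agent.Lib.Invol.BenderCover.Models

/-!
# No double cover of a Bender group is generated by a closed class of involutions

`Q` is given by the non-trivial alternatives of Bender's structure theorem (S2798).
-/

set_option autoImplicit false

namespace Cfsg.Agent.Invol.BenderCover

universe v

/-- The torus data of the groups in Bender's theorem. -/
theorem torusSylow_bender {Q : Type v} [Group Q]
    (hQ : (∃ (F : Type) (_ : Field F) (_ : Fintype F), CharP F 2 ∧ 4 ≤ Fintype.card F ∧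
        Nonempty (Q ≃* Matrix.SpecialLinearGroup (Fin 2) F)) ∨
      (∃ (F : Type) (_ : Field F) (_ : Fintype F) (q : ℕ), Even q ∧ 4 ≤ q ∧
        Fintype.card F = q ^ 2 ∧ Nonempty (Q ≃* Cfsg.PSU 3 F q)) ∨
      Cfsg.Lie.IsoSuzuki Q) : TorusSylow Q := by
  rcases hQ with ⟨F, i1, i2, hc, h4, ⟨e⟩⟩ | ⟨F, i1, i2, q, hq, h4, hF, ⟨e⟩⟩ | h
  · haveI := hc
    exact (torusSylow_sl h4).congr e.symm
  · exact (torusSylow_psu hF hq h4).congr e.symm
  · exact torusSylow_suzuki h

/-- If `G / ⟨u⟩` is one of Bender's groups then `u` belongs to every closed generating class of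
involutions: there is no double cover generated by such a class avoiding `u`. -/
theorem bender_cover_false {G : Type*} [Group G] [Finite G] {Q : Type v} [Group Q] (π : G →* Q)
    (hπ : Function.Surjective π) (u : G) (huc : ∀ g : G, u * g = g * u) (hu2 : u * u = 1) (hu1 : u ≠ 1)
    (hπu : π u = 1) (hker : ∀ g : G, π g = 1 → g = 1 ∨ g = u)
    (hQ : (∃ (F : Type) (_ : Field F) (_ : Fintype F), CharP F 2 ∧ 4 ≤ Fintype.card F ∧
        Nonempty (Q ≃* Matrix.SpecialLinearGroup (Fin 2) F)) ∨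
      (∃ (F : Type) (_ : Field F) (_ : Fintype F) (q : ℕ), Even q ∧ 4 ≤ q ∧
        Fintype.card F = q ^ 2 ∧ Nonempty (Q ≃* Cfsg.PSU 3 F q)) ∨
      Cfsg.Lie.IsoSuzuki Q)
    (Z : Set G) (hZ2 : ∀ z ∈ Z, z * z = 1 ∧ z ≠ 1) (hZc : ∀ z ∈ Z, ∀ g : G, g * z * g⁻¹ ∈ Z)
    (hgen : Subgroup.closure Z = ⊤) (huZ : u ∉ Z)
    (hmul : ∀ z ∈ Z, ∀ t ∈ Z, z * t = t * z → z ≠ t → z * t ∈ Z) : False :=
  cover_false π hπ u huc hu2 hu1 hπu hker (torusSylow_bender hQ) Z hZ2 hZc hgen huZ hmul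

end Cfsg.Agent.Invol.BenderCover
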