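import Cfsg.Agent.Lib.Invol.BenderCover.Core
import Cfsg.Agent.Lib.Local.CoreConsumers.BorelMaximal

/-!
# Torus data of the rank one groups of characteristic two

`SL₂(q)`, `PSU₃(q)` (`q ≥ 4` even) and the Suzuki groups satisfy `TorusSylow`.
-/

set_option autoImplicit false
set_option linter.unusedSectionVars false

namespace Cfsg.Agent.Invol.BenderCover

open Subgroup
open scoped commutatorElement

section Linear

open Matrix Cfsg.Agent.Grp.SL2

variable {F : Type*} [Field F] [Fintype F]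

local notation "SL₂" => Matrix.SpecialLinearGroup (Fin 2) F

theorem torusSylow_sl [CharP F 2] (h4 : 4 ≤ Fintype.card F) : TorusSylow SL₂ := by
  classical
  have h2F : (2 : F) = 0 := CharTwo.two_eq_zero
  obtain ⟨W, hW⟩ : ∃ W : Subgroup SL₂, ∀ g, g ∈ W ↔ ∃ t : F, g = up t :=
    ⟨{ carrier := {g | ∃ t : F, g = up t}
       one_mem' := ⟨0, up_zero.symm⟩
       mul_mem' := by rintro _ _ ⟨s, rfl⟩ ⟨t, rfl⟩; exact ⟨s + t, up_mul s t⟩
       inv_mem' := by
        rintro _ ⟨s, rfl⟩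
        exact ⟨-s, inv_eq_of_mul_eq_one_right (by rw [up_mul, add_neg_cancel, up_zero])⟩ },
      fun _ => Iff.rfl⟩
  have hinj : ∀ s t : F, (up s : SL₂) = up t → s = t := fun s t h => by
    have := congrFun (congrFun (congrArg Subtype.val h) 0) 1
    simpa [up] using this
  have hsq : ∀ w ∈ W, w * w = 1 := fun w hw => by
    obtain ⟨t, rfl⟩ := (hW w).1 hw
    rw [up_mul, ← two_mul, h2F, zero_mul, up_zero]
  have hcomm : ∀ w ∈ W, ∀ x ∈ W, w * x = x * w := fun w hw x hx => by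
    obtain ⟨t, rfl⟩ := (hW w).1 hw
    obtain ⟨s, rfl⟩ := (hW x).1 hx
    exact (commute_up t s).eq
  have hcard : Nat.card ↥W = Fintype.card F := by
    rw [← Nat.card_eq_fintype_card (α := F)]
    refine (Nat.card_eq_of_bijective (fun t : F => (⟨up t, (hW _).2 ⟨t, rfl⟩⟩ : ↥W))
      ⟨fun s t h => hinj s t (congrArg Subtype.val h), fun g => ?_⟩).symm
    obtain ⟨t, ht⟩ := (hW g).1 g.2
    exact ⟨t, Subtype.ext ht.symm⟩
  obtain ⟨n, -, hn⟩ := FiniteField.card F 2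
  have hp : IsPGroup 2 ↥W := IsPGroup.of_card (hcard.trans hn)
  have hidx : ¬ 2 ∣ W.index := by
    have h1 := W.card_mul_index
    rw [hcard, Lie.SympWreath.natCard_SL2] at h1
    rw [Nat.eq_of_mul_eq_mul_left Fintype.card_pos h1]
    have h2 : Even (Fintype.card F ^ 2) := by
      rw [hn, ← pow_mul]; exact Nat.even_pow.2 ⟨even_two, by positivity⟩
    have h3 : Odd (Fintype.card F ^ 2 - 1) :=
      Nat.Even.sub_odd (Nat.one_le_pow _ _ Fintype.card_pos) h2 odd_one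
    exact fun h => (Nat.not_even_iff_odd.2 h3) (even_iff_two_dvd.2 h)
  obtain ⟨c, hc0, hc1⟩ : ∃ c : F, c ≠ 0 ∧ c ≠ 1 := by
    by_contra hc
    push Not at hc
    have hle : Fintype.card F ≤ ({0, 1} : Finset F).card := Finset.card_le_card fun y _ => by
      rw [Finset.mem_insert, Finset.mem_singleton]
      exact or_iff_not_imp_left.2 (hc y)
    have := Finset.card_le_two (a := (0 : F)) (b := 1)
    omega
  refine ⟨W, W, hp, hidx, le_rfl, hsq, hcomm, fun x hx _ => hx, fun x hx y hy => ?_,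
    ⟨up 1, (hW _).2 ⟨1, rfl⟩, up c, (hW _).2 ⟨c, rfl⟩, ?_, ?_, ?_⟩, ?_, 1, 1, ?_, ?_, ?_, ?_⟩
  · rw [commutatorElement_eq_one_iff_mul_comm.2 (hcomm x hx y hy)]
    exact W.one_mem
  · exact fun h => one_ne_zero (hinj _ _ (h.trans up_zero.symm))
  · exact fun h => hc0 (hinj _ _ (h.trans up_zero.symm))
  · exact fun h => hc1 (hinj _ _ h).symm
  · intro a ha b hb ha1 hb1
    obtain ⟨s, rfl⟩ := (hW a).1 ha
    obtain ⟨t, rfl⟩ := (hW b).1 hb
    have hs : s ≠ 0 := fun h => ha1 (by rw [h, up_zero])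
    have ht : t ≠ 0 := fun h => hb1 (by rw [h, up_zero])
    obtain ⟨r, hr⟩ := (FiniteField.isSquare_of_char_two (ringChar.eq F 2) (t / s))
    have hr0 : r ≠ 0 := fun h => div_ne_zero ht hs (by rw [hr, h, mul_zero])
    refine ⟨⟨!![r, 0; 0, r⁻¹], by simp [Matrix.det_fin_two, mul_inv_cancel₀ hr0]⟩, ?_⟩
    erw [conj_up (g := (⟨!![r, 0; 0, r⁻¹], by simp [Matrix.det_fin_two, mul_inv_cancel₀ hr0]⟩ : SL₂)) rfl]
    refine congrArg up ?_
    simp [pow_two, ← hr, hs]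
  · simp
  · simp
  · intro x hx; simpa using W.mul_mem (W.inv_mem hx) (W.mul_mem hx hx)
  · intro y hy; exact ⟨1, W.one_mem, by simpa using W.inv_mem hy⟩

end Linear

section Unitary

open Matrix Cfsg Cfsg.Agent.Classical Cfsg.Agent.Classical.PSUAut Cfsg.Agent.Fus.UnitN Cfsg.Agent.Lie.SUGen
  Cfsg.Agent.Lie.SU3Pres Cfsg.Agent.Transfer.U3Min

variable {F : Type*} [Field F] [Fintype F] {q : ℕ}

theorem torusSylow_psu (hF : Fintype.card F = q ^ 2) (heven : Even q) (h4 : 4 ≤ q) :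
    TorusSylow (PSU 3 F q) := by
  classical
  haveI : Fact (Nat.Prime 2) := ⟨Nat.prime_two⟩
  obtain ⟨p, hc⟩ := CharP.exists F
  haveI : Fact p.Prime := ⟨CharP.char_is_prime F p⟩
  obtain rfl : p = 2 := Dickson.p_eq_two p (by rw [hF]; exact heven.pow_of_ne_zero two_ne_zero)
  have h2F : (2 : F) = 0 := CharTwo.two_eq_zero
  obtain ⟨e, n, f, B⟩ := exists_frame hF
  obtain ⟨k, -, hk⟩ := FiniteField.card F 2
  obtain ⟨j, -, hj⟩ := (Nat.dvd_prime_pow Nat.prime_two).1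
    (show q ∣ 2 ^ (k : ℕ) from hk ▸ hF ▸ dvd_pow_self q two_ne_zero)
  obtain ⟨π, hπdef⟩ : ∃ π : SU 3 F q →* PSU 3 F q, π = suToPSU 3 F q := ⟨_, rfl⟩
  have hπs : Function.Surjective π := hπdef ▸ pi_surjective
  have hUker : ∀ u ∈ Uni hF B, π u = 1 → u = 1 := by
    intro u hu h1
    obtain ⟨l, hl⟩ := (pi_eq_one_iff hF).1 (hπdef ▸ h1)
    have h2 : suVal u *ᵥ e = l • e := by rw [hl, Matrix.smul_mulVec, Matrix.one_mulVec]
    rw [(mem_Uni_iff hF B).1 hu] at h2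
    have hl1 : l = 1 := (smul_left_injective F B.P.ne_zero (by simpa using h2)).symm
    refine suVal_ext ?_
    rw [hl, hl1, one_smul, suVal_one']
  -- the order of the unipotent radical
  have hU : Nat.card (Uni hF B) = q ^ 3 := by
    have h := card_inf_Uni hF B ⊤
    rw [top_inf_eq] at h
    have hb := card_inf_Bor hF B ⊤
    rw [top_inf_eq, card_Bor hF B, top_inf_eq] at hb
    have ht : tSet B ⊤ = ⊤ := eq_top_iff.2 fun l _ =>
      (mem_tSet hF B).2 ⟨Tm hF B (l : F), Subgroup.mem_top _, T_e hF B l.ne_zero⟩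
    rw [ht, Subgroup.card_top, Nat.card_units, Nat.card_eq_fintype_card (α := F), hF] at hb
    exact (Nat.eq_of_mul_eq_mul_right (Nat.sub_pos_of_lt (Nat.one_lt_pow two_ne_zero (by omega))) hb).symm
  have hUp : IsPGroup 2 ↥((Uni hF B).map π) :=
    IsPGroup.map (IsPGroup.of_card (n := j * 3) (by rw [hU, hj, ← pow_mul])) _
  have hUidx : ¬ 2 ∣ ((Uni hF B).map π).index := by
    intro h2
    have h3 := h2.trans (Subgroup.index_map_dvd (Uni hF B) hπs)
    rw [← Subgroup.relIndex_mul_index (Uni_le_Bor hF B), index_Bor hF B] at h3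
    have hr : (Uni hF B).relIndex (Bor B) * q ^ 3 = (q ^ 2 - 1) * q ^ 3 := by
      have := Subgroup.card_mul_index ((Uni hF B).subgroupOf (Bor B))
      rw [Nat.card_congr (Subgroup.subgroupOfEquivOfLe (Uni_le_Bor hF B)).toEquiv, hU, card_Bor hF B] at this
      rw [Subgroup.relIndex, mul_comm, this, mul_comm]
    rw [Nat.eq_of_mul_eq_mul_right (pow_pos (show 0 < q by omega) 3) hr] at h3
    have hq3 : Odd (q ^ 3 + 1) := Even.add_one (heven.pow_of_ne_zero (by norm_num))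
    have hq2 : Odd (q ^ 2 - 1) := Nat.Even.sub_odd (Nat.one_le_pow _ _ (by omega))
      (heven.pow_of_ne_zero (by norm_num)) odd_one
    exact (Nat.not_even_iff_odd.2 (hq2.mul hq3)) (even_iff_two_dvd.2 h3)
  have hskew : ∀ c : F, c + qFrob hF c = 0 ↔ qFrob hF c = c := fun c => by
    rw [add_eq_zero_iff_eq_neg, CharTwo.neg_eq, eq_comm]
  obtain ⟨W₀, hW₀⟩ : ∃ W₀ : Subgroup (SU 3 F q), ∀ g,
      g ∈ W₀ ↔ ∃ c, qFrob hF c = c ∧ g = Um hF B 0 c := by
    refine ⟨{ carrier := {g | ∃ c, qFrob hF c = c ∧ g = Um hF B 0 c}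
              one_mem' := ⟨0, map_zero _, (U_zero hF B).symm⟩
              mul_mem' := ?_
              inv_mem' := ?_ }, fun _ => Iff.rfl⟩
    · rintro _ _ ⟨c, hc, rfl⟩ ⟨c', hc', rfl⟩
      refine ⟨c + c', by rw [map_add, hc, hc'], ?_⟩
      rw [U_mul hF B (OK.skew hF ((hskew c).2 hc)) (OK.skew hF ((hskew c').2 hc'))]
      simp
    · rintro _ ⟨c, hc, rfl⟩
      exact ⟨c, hc, by rw [U_inv hF B (OK.skew hF ((hskew c).2 hc)), neg_zero, hc]⟩
  have hWU : W₀ ≤ Uni hF B := fun g hg => by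
    obtain ⟨c, hc, rfl⟩ := (hW₀ g).1 hg
    exact ⟨0, c, OK.skew hF ((hskew c).2 hc), rfl⟩
  have hlin : ∀ α b, OK hF α b → α = 0 → Um hF B α b ∈ W₀ := fun α b hb hα => by
    subst hα
    refine (hW₀ _).2 ⟨b, (hskew b).1 ?_, rfl⟩
    simpa [OK] using hb
  have hne : ∀ c, qFrob hF c = c → π (Um hF B 0 c) ≠ 1 → c ≠ 0 := fun c _ h hc => h (by
    rw [hc, U_zero hF B, map_one])
  -- parameters of the two torus elements
  obtain ⟨l1, l2, hl1, hl2, hl12, hl⟩ : ∃ l1 l2 : F, l1 ≠ 0 ∧ l2 ≠ 0 ∧ th hF l2 = 1 + th hF l1 ∧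
      1 + th hF l1 + th hF l1 * th hF l1 ≠ 0 := by
    let S : Finset F := Finset.univ.filter fun x => x = 0 ∨ x = 1 ∨ 1 + x + x * x = 0
    have hroot : ∀ x y : F, 1 + x + x * x = 0 → 1 + y + y * y = 0 → y = x ∨ y = x + 1 := by
      intro x y hx hy
      have h : (y - x) * (y - (x + 1)) = 0 := by linear_combination hy - hx + (x * x + x - x * y - y) * h2F
      exact (mul_eq_zero.1 h).imp sub_eq_zero.1 sub_eq_zero.1
    have hS : S.card ≤ 4 := by
      by_cases hx : ∃ x : F, 1 + x + x * x = 0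
      · obtain ⟨x, hx⟩ := hx
        refine (Finset.card_le_card (t := {0, 1, x, x + 1}) fun y hy => ?_).trans Finset.card_le_four
        rcases (Finset.mem_filter.1 hy).2 with h | h | h
        · simp [h]
        · simp [h]
        · rcases hroot x y hx h with h' | h' <;> simp [h']
      · refine (Finset.card_le_card (t := {0, 1}) fun y hy => ?_).trans
          (Finset.card_le_two.trans (by norm_num))
        rcases (Finset.mem_filter.1 hy).2 with h | h | h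
        · simp [h]
        · simp [h]
        · exact absurd ⟨y, h⟩ hx
    have hout : ∀ T : Finset F, 4 < T.card →
        ∃ x ∈ T, x ≠ 0 ∧ 1 + x ≠ 0 ∧ 1 + x + x * x ≠ 0 := by
      intro T hT
      obtain ⟨x, hxT, hxS⟩ := Finset.exists_mem_notMem_of_card_lt_card (s := S) (t := T) (by omega)
      have h := fun h' => hxS (Finset.mem_filter.2 ⟨Finset.mem_univ _, h'⟩)
      exact ⟨x, hxT, fun h' => h (Or.inl h'), fun h' => h (Or.inr (Or.inl (by
        linear_combination h' - h2F))), fun h' => h (Or.inr (Or.inr h'))⟩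
    by_cases h8 : 4 < q
    · obtain ⟨x, hxT, hx0, hx1, hx⟩ := hout (Finset.univ.filter fun x => qFrob hF x = x) (by
        have h := Lie.MinIndexUnit.card_fixed hF
        rw [Nat.card_eq_fintype_card, Fintype.card_subtype] at h
        omega)
      have hxr := (Finset.mem_filter.1 hxT).2
      refine ⟨x, 1 + x, hx0, hx1, ?_, by rwa [th_real hF hxr hx0]⟩
      rw [th_real hF hxr hx0, th_real hF (by rw [map_add, map_one, hxr]) hx1]
    · obtain rfl : q = 4 := by omega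
      obtain ⟨x, -, hx0, hx1, hx⟩ := hout Finset.univ (by rw [Finset.card_univ, hF]; norm_num)
      have hth : ∀ y : F, y ≠ 0 → th hF (y ^ 13) = y := fun y hy => by
        rw [th_eq_pow hF B (pow_ne_zero _ hy), ← pow_mul,
          show 13 * (2 * 4 - 1) = (4 ^ 2 - 1) * 6 + 1 by norm_num, pow_succ, pow_mul,
          pow_card_sub_one hF B hy, one_pow, one_mul]
      exact ⟨x ^ 13, (1 + x) ^ 13, pow_ne_zero _ hx0, pow_ne_zero _ hx1, by rw [hth _ hx0, hth _ hx1],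
        by rw [hth _ hx0]; exact hx⟩
  have hTU : ∀ l : F, l ≠ 0 → ∀ x ∈ (Uni hF B).map π, π (Tm hF B l) * x * (π (Tm hF B l))⁻¹ ∈ (Uni hF B).map π := by
    rintro l hl _ ⟨u, ⟨α, b, hb, rfl⟩, rfl⟩
    exact ⟨_, ⟨_, _, hb.scale hF hl, T_conj hF B hl hb⟩, by simp⟩
  refine ⟨(Uni hF B).map π, W₀.map π, hUp, hUidx, Subgroup.map_mono hWU, ?_, ?_, ?_, ?_, ?_, ?_,
    π (Tm hF B l1), π (Tm hF B l2), hTU l1 hl1, hTU l2 hl2, ?_, ?_⟩
  · rintro _ ⟨w, hw, rfl⟩
    obtain ⟨c, hc, rfl⟩ := (hW₀ w).1 hw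
    have h0 := OK.skew hF ((hskew c).2 hc)
    rw [← map_mul, U_mul hF B h0 h0]
    simp [CharTwo.add_self_eq_zero, U_zero hF B]
  · rintro _ ⟨w, hw, rfl⟩ _ ⟨u, ⟨α, b, hb, rfl⟩, rfl⟩
    obtain ⟨c, hc, rfl⟩ := (hW₀ w).1 hw
    have h0 := OK.skew hF ((hskew c).2 hc)
    rw [← map_mul, ← map_mul, U_mul hF B h0 hb, U_mul hF B hb h0]
    simp [add_comm]
  · rintro _ ⟨u, ⟨α, b, hb, rfl⟩, rfl⟩ hxx
    refine ⟨_, hlin α b hb ?_, rfl⟩
    have h := hUker _ (Subgroup.mul_mem _ ⟨α, b, hb, rfl⟩ ⟨α, b, hb, rfl⟩) (by rw [map_mul]; exact hxx)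
    rw [U_mul hF B hb hb] at h
    have h' := (U_eq_one hF B (hb.mul hF hb) h).2
    have h'' : qFrob hF α * α = 0 := by linear_combination (-h') + b * h2F
    rcases mul_eq_zero.1 h'' with h3 | h3
    · exact (map_eq_zero _).1 h3
    · exact h3
  · rintro _ ⟨u, ⟨α, b, hb, rfl⟩, rfl⟩ _ ⟨v, ⟨α', b', hb', rfl⟩, rfl⟩
    rw [← map_commutatorElement, U_comm hF B hb hb']
    refine ⟨_, hlin 0 _ (OK.skew hF ?_) rfl, rfl⟩
    simp only [map_sub, map_mul, cj_cj hF]; ring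
  · have hcard := Lie.MinIndexUnit.card_fixed hF
    rw [Nat.card_eq_fintype_card, Fintype.card_subtype] at hcard
    obtain ⟨c, hc, hc'⟩ := Finset.exists_mem_notMem_of_card_lt_card (s := ({0, 1} : Finset F))
      (t := Finset.univ.filter fun x => qFrob hF x = x) (by
        have := Finset.card_le_two (a := (0 : F)) (b := 1)
        omega)
    have hcr := (Finset.mem_filter.1 hc).2
    simp only [Finset.mem_insert, Finset.mem_singleton, not_or] at hc'
    have hi : ∀ a b : F, qFrob hF a = a → qFrob hF b = b → π (Um hF B 0 a) = π (Um hF B 0 b) → a = b := by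
      intro a b ha hb h
      have oa := OK.skew hF ((hskew a).2 ha)
      have ob := OK.skew hF ((hskew b).2 hb)
      have h1 := hUker _ (Subgroup.mul_mem _ (Subgroup.inv_mem _ ⟨0, a, oa, rfl⟩) ⟨0, b, ob, rfl⟩)
        (by rw [map_mul, map_inv, h, inv_mul_cancel])
      exact (U_inj hF B oa ob (inv_mul_eq_one.1 h1)).2
    have h01 : π (Um hF B 0 0) = 1 := by rw [U_zero hF B, map_one]
    refine ⟨_, ⟨_, (hW₀ _).2 ⟨1, map_one _, rfl⟩, rfl⟩, _, ⟨_, (hW₀ _).2 ⟨c, hcr, rfl⟩, rfl⟩, ?_, ?_, ?_⟩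
    · exact fun h => one_ne_zero (hi 1 0 (map_one _) (map_zero _) (h.trans h01.symm))
    · exact fun h => hc'.1 (hi c 0 hcr (map_zero _) (h.trans h01.symm))
    · exact fun h => hc'.2 (hi 1 c (map_one _) hcr h).symm
  · rintro _ ⟨w, hw, rfl⟩ _ ⟨w', hw', rfl⟩ hw1 hw1'
    obtain ⟨c, hc, rfl⟩ := (hW₀ w).1 hw
    obtain ⟨c', hc', rfl⟩ := (hW₀ w').1 hw'
    have hc0 := hne c hc hw1
    have hc0' := hne c' hc' hw1'
    obtain ⟨r, hr⟩ := FiniteField.isSquare_of_char_two (ringChar.eq F 2) (c' / c)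
    have hr0 : r ≠ 0 := fun h => div_ne_zero hc0' hc0 (by rw [hr, h, mul_zero])
    have hrr : qFrob hF r = r := by
      have h : qFrob hF r * qFrob hF r = r * r := by rw [← map_mul, ← hr, map_div₀, hc, hc']
      have h' : (qFrob hF r - r) * (qFrob hF r - r) = 0 := by
        linear_combination h + (r * r - qFrob hF r * r) * h2F
      exact sub_eq_zero.1 (mul_self_eq_zero.1 h')
    refine ⟨π (Tm hF B r), ?_⟩
    rw [← map_mul, ← map_inv, ← map_mul, T_conj hF B hr0 (OK.skew hF ((hskew c).2 hc)), mul_zero, hrr, ← hr,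
      div_mul_cancel₀ _ hc0]
  · rintro _ ⟨u, ⟨α, b, hb, rfl⟩, rfl⟩
    simp only [← map_mul, ← map_inv]
    refine ⟨_, ?_, rfl⟩
    rw [T_conj hF B hl2 hb, T_conj hF B hl1 hb, U_inv hF B (hb.scale hF hl2),
      U_mul hF B hb (hb.scale hF hl1), U_mul hF B ((hb.scale hF hl2).inv hF) (hb.mul hF (hb.scale hF hl1))]
    refine hlin _ _ (((hb.scale hF hl2).inv hF).mul hF (hb.mul hF (hb.scale hF hl1))) ?_
    rw [hl12]; ring
  · rintro _ ⟨u, ⟨α₀, b₀, hb₀, rfl⟩, rfl⟩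
    obtain ⟨α, hα⟩ : ∃ α, α = α₀ / (1 + th hF l1 + th hF l1 * th hF l1) := ⟨_, rfl⟩
    obtain ⟨b, hb'⟩ := exists_trace_eq hF (a := -(α * qFrob hF α))
      (by rw [map_neg, map_mul, cj_cj hF, mul_comm])
    have hb : OK hF α b := by unfold OK; linear_combination hb'
    refine ⟨π (Um hF B α b), ⟨_, ⟨α, b, hb, rfl⟩, rfl⟩, ?_⟩
    simp only [← map_mul, ← map_inv]
    refine ⟨_, ?_, rfl⟩
    rw [T_conj hF B hl1 hb, T_conj hF B hl1 (hb.scale hF hl1), U_inv hF B hb₀,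
      U_mul hF B hb (hb.scale hF hl1), U_mul hF B (hb.mul hF (hb.scale hF hl1)) ((hb.scale hF hl1).scale hF hl1),
      U_mul hF B (hb₀.inv hF) ((hb.mul hF (hb.scale hF hl1)).mul hF ((hb.scale hF hl1).scale hF hl1))]
    refine hlin _ _ ((hb₀.inv hF).mul hF
      ((hb.mul hF (hb.scale hF hl1)).mul hF ((hb.scale hF hl1).scale hF hl1))) ?_
    have : α * (1 + th hF l1 + th hF l1 * th hF l1) = α₀ := by rw [hα, div_mul_cancel₀ _ hl]
    linear_combination this

end Unitary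

section Suzuki

open Cfsg.Agent.Suz

theorem torusSylow_sz {F : Type*} [Field F] [Fintype F] {m : ℕ} (hS : SzField F m) :
    TorusSylow ↥(Cfsg.Sz F m) := by
  classical
  haveI := Suz.charP hS
  have h2 := Suz.two hS
  obtain ⟨W, hW⟩ : ∃ W : Subgroup ↥(Cfsg.Sz F m), ∀ g, g ∈ W ↔ ∃ b, g = uS hS 0 b :=
    ⟨{ carrier := {g | ∃ b, g = uS hS 0 b}
       one_mem' := ⟨0, (uS_zero hS).symm⟩
       mul_mem' := by
        rintro _ _ ⟨b, rfl⟩ ⟨b', rfl⟩
        exact ⟨b + b', by rw [uS_mul, th_zero]; simp⟩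
       inv_mem' := by
        rintro _ ⟨b, rfl⟩
        exact ⟨b, by rw [uS_inv, mul_zero, add_zero]⟩ }, fun _ => Iff.rfl⟩
  obtain ⟨c, hc⟩ : ∃ c : F, c ≠ 0 ∧ c ≠ 1 ∧ 1 + c + c * c ≠ 0 := by
    by_contra hc
    push Not at hc
    by_cases hx : ∃ x : F, 1 + x + x * x = 0
    · obtain ⟨x, hx⟩ := hx
      have hle : Fintype.card F ≤ ({0, 1, x, x + 1} : Finset F).card := Finset.card_le_card fun y _ => by
        by_cases hy0 : y = 0
        · simp [hy0]
        by_cases hy1 : y = 1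
        · simp [hy1]
        have h : (y - x) * (y - (x + 1)) = 0 := by
          linear_combination hc y hy0 hy1 - hx + (x * x + x - x * y - y) * h2
        rcases mul_eq_zero.1 h with h | h <;> simp [sub_eq_zero.1 h]
      have := eight_le hS
      have := Finset.card_le_four (a := (0 : F)) (b := 1) (c := x) (d := x + 1)
      omega
    · obtain ⟨y, hy0, hy1⟩ := exists_ne_zero_one hS
      exact hx ⟨y, hc y hy0 hy1⟩
  have hc1 : 1 + c ≠ 0 := fun h => hc.2.1 (by linear_combination h - h2)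
  obtain ⟨z1, hz1⟩ := exists_par hS (Units.mk0 c hc.1)
  obtain ⟨z2, hz2⟩ := exists_par hS (Units.mk0 (1 + c) hc1)
  simp only [Units.val_mk0] at hz1 hz2
  have hTU : ∀ z : Fˣ, ∀ x ∈ unip hS, hTor hS z * x * (hTor hS z)⁻¹ ∈ unip hS := by
    intro z x hx
    obtain ⟨a, b, rfl⟩ := (mem_unip hS).1 hx
    exact (mem_unip hS).2 ⟨_, _, hTor_conj hS z a b⟩
  refine ⟨unip hS, W, isPGroup_unip hS, not_two_dvd_index_unip hS, ?_, ?_, ?_, ?_, ?_,
    ⟨uS hS 0 1, (hW _).2 ⟨1, rfl⟩, uS hS 0 c, (hW _).2 ⟨c, rfl⟩, uS_ne_one hS (by simp),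
      uS_ne_one hS (by simp [hc.1]), fun h => hc.2.1 (uS_injective hS h).2.symm⟩, ?_,
    hTor hS z1, hTor hS z2, hTU z1, hTU z2, ?_, ?_⟩
  · intro g hg
    obtain ⟨b, rfl⟩ := (hW g).1 hg
    exact (mem_unip hS).2 ⟨0, b, rfl⟩
  · intro w hw
    obtain ⟨b, rfl⟩ := (hW w).1 hw
    rw [uS_mul, th_zero, zero_mul, add_zero, add_zero, CharTwo.add_self_eq_zero, uS_zero]
  · intro w hw x hx
    obtain ⟨b, rfl⟩ := (hW w).1 hw
    obtain ⟨a, b', rfl⟩ := (mem_unip hS).1 hx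
    rw [uS_mul, uS_mul, th_zero]
    simp [add_comm]
  · intro x hx hxx
    obtain ⟨a, b, rfl⟩ := (mem_unip hS).1 hx
    rw [← pow_two, uS_sq, ← uS_zero hS] at hxx
    have h := (uS_injective hS hxx).2
    have ha : a = 0 := (mul_eq_zero.1 h).elim (fun h' => th_eq_zero.1 h') id
    exact (hW _).2 ⟨b, by rw [ha]⟩
  · intro x hx y hy
    obtain ⟨a, b, rfl⟩ := (mem_unip hS).1 hx
    obtain ⟨a', b', rfl⟩ := (mem_unip hS).1 hy
    refine (hW _).2 ⟨b + b' + th m a * a' + (b + th m a * a) + th m (a + a') * a +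
      (b' + th m a' * a') + th m (a + a' + a) * a', ?_⟩
    rw [commutatorElement_def, uS_inv, uS_inv, uS_mul, uS_mul, uS_mul]
    congr 1
    linear_combination (a + a') * h2
  · intro w hw w' hw' h1 h1'
    obtain ⟨b, rfl⟩ := (hW w).1 hw
    obtain ⟨b', rfl⟩ := (hW w').1 hw'
    have hb : b ≠ 0 := fun h => h1 (by rw [h, uS_zero])
    have hb' : b' ≠ 0 := fun h => h1' (by rw [h, uS_zero])
    obtain ⟨z, hz⟩ := exists_th_unit hS (b' / b) (div_ne_zero hb' hb)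
    exact ⟨hTor hS z, by rw [hTor_conj, hz, mul_zero, div_mul_cancel₀ _ hb]⟩
  · intro x hx
    obtain ⟨a, b, rfl⟩ := (mem_unip hS).1 hx
    rw [hTor_conj, hTor_conj, hz1, hz2, uS_inv, uS_mul, uS_mul]
    refine (hW _).2 ⟨_, congrArg (fun t => uS hS t _) ?_⟩
    linear_combination (a + c * a) * h2
  · intro y hy
    obtain ⟨a₀, b₀, rfl⟩ := (mem_unip hS).1 hy
    obtain ⟨a, ha⟩ : ∃ a, a = a₀ / (1 + c + c * c) := ⟨_, rfl⟩
    refine ⟨uS hS a 0, (mem_unip hS).2 ⟨a, 0, rfl⟩, ?_⟩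
    rw [hTor_conj, hTor_conj, hz1, uS_inv, uS_mul, uS_mul, uS_mul]
    refine (hW _).2 ⟨_, congrArg (fun t => uS hS t _) ?_⟩
    have : a * (1 + c + c * c) = a₀ := by rw [ha, div_mul_cancel₀ _ hc.2.2]
    linear_combination this + a₀ * h2

theorem torusSylow_suzuki {L : Type*} [Group L] (h : Cfsg.Lie.IsoSuzuki L) : TorusSylow L := by
  obtain ⟨F, i1, i2, m, hm, hF, ⟨e⟩⟩ := h
  have hS : Suz.SzField F m := ⟨hm, hF⟩
  exact (torusSylow_sz hS).congr ((Suz.szEquiv hS).trans e.symm)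

end Suzuki

end Cfsg.Agent.Invol.BenderCover
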