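import Mathlib

/-!
# Double covers generated by a closed class of involutions

Let `u` be a central involution of `G` and `Z` a conjugation-closed generating set of involutions, not
containing `u`, in which any product of two different commuting members lies again. If `G / ⟨u⟩` has
the Sylow 2-structure of a rank one group of characteristic two (`TorusSylow`) this is impossible:
the lifts of the central involutions are unique, hence central in a Sylow subgroup `P`, the torus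
forces the commutators of `P` into their span, and transfer puts `u` among those commutators.
-/

set_option autoImplicit false

namespace Cfsg.Agent.Invol.BenderCover

open Subgroup
open scoped commutatorElement

universe v

/-- The Sylow 2-subgroup data of a rank one group of characteristic two: the involutions of `Pb` form
with `1` a central subgroup `W` with at least three involutions, all conjugate, containing the
commutators, and two elements `d`, `e` of the normaliser act on `Pb / W` by `D` and `1 + D`, with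
`1 + D + D ^ 2` surjective. -/
def TorusSylow (Q : Type v) [Group Q] : Prop :=
  ∃ Pb W : Subgroup Q, IsPGroup 2 ↥Pb ∧ ¬ 2 ∣ Pb.index ∧ W ≤ Pb ∧ (∀ w ∈ W, w * w = 1) ∧
    (∀ w ∈ W, ∀ x ∈ Pb, w * x = x * w) ∧ (∀ x ∈ Pb, x * x = 1 → x ∈ W) ∧
    (∀ x ∈ Pb, ∀ y ∈ Pb, ⁅x, y⁆ ∈ W) ∧
    (∃ a ∈ W, ∃ b ∈ W, a ≠ 1 ∧ b ≠ 1 ∧ a ≠ b) ∧
    (∀ a ∈ W, ∀ b ∈ W, a ≠ 1 → b ≠ 1 → ∃ g : Q, g * a * g⁻¹ = b) ∧
    ∃ d e : Q, (∀ x ∈ Pb, d * x * d⁻¹ ∈ Pb) ∧ (∀ x ∈ Pb, e * x * e⁻¹ ∈ Pb) ∧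
      (∀ x ∈ Pb, (e * x * e⁻¹)⁻¹ * (x * (d * x * d⁻¹)) ∈ W) ∧
      ∀ y ∈ Pb, ∃ x ∈ Pb, y⁻¹ * (x * (d * x * d⁻¹) * (d * (d * x * d⁻¹) * d⁻¹)) ∈ W

theorem TorusSylow.congr {Q : Type v} [Group Q] {R : Type*} [Group R] (h : TorusSylow Q)
    (φ : Q ≃* R) : TorusSylow R := by
  obtain ⟨Pb, W, hp, hi, hWP, hW2, hWc, hinv, hcomm, ⟨a, ha, b, hb, ha1, hb1, hab⟩, htr, d, e, hd, he,
    hde, hsur⟩ := h
  have hne : ∀ {x : Q}, x ≠ 1 → φ x ≠ 1 := fun hx hh => hx (φ.map_eq_one_iff.1 hh)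
  refine ⟨Pb.map φ.toMonoidHom, W.map φ.toMonoidHom, hp.map _, by erw [Subgroup.index_map_equiv]; exact hi,
    Subgroup.map_mono hWP, ?_, ?_, ?_, ?_, ⟨φ a, ⟨a, ha, rfl⟩, φ b, ⟨b, hb, rfl⟩, hne ha1, hne hb1,
      fun hh => hab (φ.injective hh)⟩, ?_, φ d, φ e, ?_, ?_, ?_, ?_⟩
  · rintro _ ⟨w, hw, rfl⟩
    simpa using congrArg φ (hW2 w hw)
  · rintro _ ⟨w, hw, rfl⟩ _ ⟨x, hx, rfl⟩
    simpa using congrArg φ (hWc w hw x hx)
  · rintro _ ⟨x, hx, rfl⟩ hxx
    exact ⟨x, hinv x hx (φ.injective (by simpa using hxx)), rfl⟩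
  · rintro _ ⟨x, hx, rfl⟩ _ ⟨y, hy, rfl⟩
    exact ⟨_, hcomm x hx y hy, map_commutatorElement _ _ _⟩
  · rintro _ ⟨x, hx, rfl⟩ _ ⟨y, hy, rfl⟩ hx1 hy1
    obtain ⟨g, hg⟩ := htr x hx y hy (fun hh => hx1 (by simp [hh])) (fun hh => hy1 (by simp [hh]))
    exact ⟨φ g, by simpa using congrArg φ hg⟩
  · rintro _ ⟨x, hx, rfl⟩
    exact ⟨_, hd x hx, by simp⟩
  · rintro _ ⟨x, hx, rfl⟩
    exact ⟨_, he x hx, by simp⟩
  · rintro _ ⟨x, hx, rfl⟩
    exact ⟨_, hde x hx, by simp⟩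
  · rintro _ ⟨y, hy, rfl⟩
    obtain ⟨x, hx, hh⟩ := hsur y hy
    exact ⟨φ x, ⟨x, hx, rfl⟩, _, hh, by simp⟩

/-- A central involution of the derived subgroup lies in the derived subgroup of a Sylow
2-subgroup. -/
theorem mem_commutator_of_central {G : Type*} [Group G] [Finite G] (P : Subgroup G)
    (hP : ¬ 2 ∣ P.index) {u : G} (huc : ∀ g : G, u * g = g * u) (hu2 : u * u = 1) (huP : u ∈ P)
    (hu : u ∈ commutator G) : u ∈ ⁅P, P⁆ := by
  let ϕ : ↥P →* Abelianization ↥P := Abelianization.of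
  have key : ∀ (k : ℕ) (g₀ : G), g₀⁻¹ * u ^ k * g₀ ∈ P → g₀⁻¹ * u ^ k * g₀ = u ^ k := fun k g₀ _ => by
    have h : Commute u g₀ := huc g₀
    rw [mul_assoc, (h.pow_left k).eq, inv_mul_cancel_left]
  have h1 := MonoidHom.transfer_eq_pow ϕ u key
  have h0 : MonoidHom.transfer ϕ u = 1 :=
    Abelianization.commutator_subset_ker (MonoidHom.transfer ϕ) hu
  obtain ⟨j, hj⟩ : Odd P.index := Nat.odd_iff.2 (by omega)
  have hpow : u ^ P.index = u := by rw [hj, pow_succ, pow_mul, pow_two, hu2, one_pow, one_mul]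
  have h2 : (⟨u, huP⟩ : ↥P) ∈ commutator ↥P := by
    have h3 : ϕ ⟨u, huP⟩ = 1 := by
      rw [h0] at h1
      rw [h1]
      congr 1
      exact Subtype.ext hpow.symm
    exact (QuotientGroup.eq_one_iff _).1 h3
  have h4 : (commutator ↥P).map P.subtype = ⁅P, P⁆ := by
    rw [commutator_def, Subgroup.map_commutator, ← MonoidHom.range_eq_map, Subgroup.range_subtype]
  exact h4 ▸ ⟨_, h2, rfl⟩

theorem add_four {a b c d : ZMod 2} (h : a + b + (c + d) = a) (hd : d = a) : a + b + c = 0 := by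
  revert a b c d
  decide

/-- No double cover of a group with torus data is generated by a closed class of involutions
avoiding the kernel. -/
theorem cover_false {G : Type*} [Group G] [Finite G] {Q : Type v} [Group Q] (π : G →* Q)
    (hπ : Function.Surjective π) (u : G) (huc : ∀ g : G, u * g = g * u) (hu2 : u * u = 1) (hu1 : u ≠ 1)
    (hπu : π u = 1) (hker : ∀ g : G, π g = 1 → g = 1 ∨ g = u) (hQ : TorusSylow Q)
    (Z : Set G) (hZ2 : ∀ z ∈ Z, z * z = 1 ∧ z ≠ 1) (hZc : ∀ z ∈ Z, ∀ g : G, g * z * g⁻¹ ∈ Z)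
    (hgen : Subgroup.closure Z = ⊤) (huZ : u ∉ Z)
    (hmul : ∀ z ∈ Z, ∀ t ∈ Z, z * t = t * z → z ≠ t → z * t ∈ Z) : False := by
  classical
  obtain ⟨Pb, W, hp, hi, hWP, hW2, hWc, hinv, hcomm, ⟨a, ha, b, hb, ha1, hb1, hab⟩, htr, d, e, hd, he,
    hde, hsur⟩ := hQ
  haveI : Fact (Nat.Prime 2) := ⟨Nat.prime_two⟩
  have huinv : u⁻¹ = u := inv_eq_of_mul_eq_one_left hu2
  have himg : ∀ z ∈ Z, π z ≠ 1 := fun z hz h => (hker z h).elim (hZ2 z hz).2 fun h' => huZ (h' ▸ hz)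
  -- lifts in `Z` are unique
  have huniq : ∀ z ∈ Z, ∀ t ∈ Z, π z = π t → z = t := by
    intro z hz t ht h
    by_contra hne
    rcases hker (z⁻¹ * t) (by rw [map_mul, map_inv, h, inv_mul_cancel]) with h' | h'
    · exact hne (inv_mul_eq_one.1 h')
    · have hzt : t = z * u := by rw [← h', mul_inv_cancel_left]
      refine huZ ?_
      have hcm : z * t = t * z := by rw [hzt, mul_assoc z u z, huc z]
      have h2 := hmul z hz t ht hcm hne
      rwa [hzt, ← mul_assoc, (hZ2 z hz).1, one_mul] at h2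
  have hcent : ∀ z ∈ Z, ∀ g : G, π g * π z = π z * π g → g * z = z * g := by
    intro z hz g h
    have h1 : g * z * g⁻¹ = z := huniq _ (hZc z hz g) z hz (by
      rw [map_mul, map_mul, map_inv, h, mul_inv_cancel_right])
    exact mul_inv_eq_iff_eq_mul.1 h1
  -- the Sylow subgroup and its involutions
  obtain ⟨k, hk⟩ : ∃ P : Subgroup G, P = Pb.comap π := ⟨_, rfl⟩
  have hPi : ¬ 2 ∣ k.index := by rwa [hk, Subgroup.index_comap_of_surjective _ hπ]
  have hPp : IsPGroup 2 ↥k := by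
    intro x
    obtain ⟨n, hn⟩ := hp ⟨π (x : G), show π (x : G) ∈ Pb from (hk ▸ x.2 : (x : G) ∈ Pb.comap π)⟩
    refine ⟨n + 1, Subtype.ext ?_⟩
    have h1 : π ((x : G) ^ 2 ^ n) = 1 := by simpa using congrArg Subtype.val hn
    rw [SubmonoidClass.coe_pow, OneMemClass.coe_one, pow_succ, pow_mul]
    rcases hker _ h1 with h | h <;> rw [h]
    · exact one_pow _
    · rw [pow_two, hu2]
  have hmem : ∀ {g : G}, g ∈ k ↔ π g ∈ Pb := fun {g} => by rw [hk]; rfl
  -- every involution of `Q` in the image of `Z` is conjugate into `W`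
  have hconj : ∀ z ∈ Z, ∃ g : G, π (g * z * g⁻¹) ∈ W := by
    intro z hz
    let P : Sylow 2 G := hPp.toSylow hPi
    have hzp : IsPGroup 2 ↥(Subgroup.zpowers z) := by
      refine IsPGroup.of_card (n := 1) ?_
      rw [Nat.card_zpowers, pow_one]
      exact orderOf_eq_prime (by rw [pow_two]; exact (hZ2 z hz).1) (hZ2 z hz).2
    obtain ⟨R, hR⟩ := hzp.exists_le_sylow
    obtain ⟨g, hg⟩ := MulAction.exists_smul_eq G R P
    refine ⟨g, hinv _ ?_ ?_⟩
    · refine hmem.1 ?_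
      have h1 : g * z * g⁻¹ ∈ (g • R : Sylow 2 G) := ⟨z, hR (Subgroup.mem_zpowers z), rfl⟩
      rw [hg] at h1
      exact h1
    · rw [← map_mul, conj_mul, (hZ2 z hz).1, mul_one, mul_inv_cancel, map_one]
  obtain ⟨z₀, hz₀⟩ : Z.Nonempty := by
    rw [Set.nonempty_iff_ne_empty]
    intro h
    rw [h, Subgroup.closure_empty] at hgen
    exact hu1 (Subgroup.mem_bot.1 (hgen ▸ Subgroup.mem_top u))
  have hlift : ∀ w ∈ W, w ≠ 1 → ∃ z ∈ Z, π z = w := by
    intro w hw hw1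
    obtain ⟨g, hg⟩ := hconj z₀ hz₀
    obtain ⟨c, hc⟩ := htr _ hg w hw (himg _ (hZc _ hz₀ g)) hw1
    obtain ⟨c, rfl⟩ := hπ c
    exact ⟨c * (g * z₀ * g⁻¹) * c⁻¹, hZc _ (hZc _ hz₀ g) c, by rw [map_mul, map_mul, map_inv, hc]⟩
  -- `Z` lies in the derived subgroup
  have hG' : commutator G = ⊤ := by
    rw [eq_top_iff, ← hgen, Subgroup.closure_le]
    have hconjZ : ∀ z ∈ Z, π z ∈ W → ∀ t ∈ Z, π t ∈ W →
        Abelianization.of z = Abelianization.of t := by
      intro z hz hzW t ht htW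
      obtain ⟨c, hc⟩ := htr _ hzW _ htW (himg z hz) (himg t ht)
      obtain ⟨c, rfl⟩ := hπ c
      have h1 : c * z * c⁻¹ = t := huniq _ (hZc z hz c) t ht (by rw [map_mul, map_mul, map_inv, hc])
      rw [← h1, map_mul, map_mul, map_inv, mul_comm (Abelianization.of c), mul_inv_cancel_right]
    obtain ⟨za, hza, rfl⟩ := hlift a ha ha1
    obtain ⟨zb, hzb, rfl⟩ := hlift b hb hb1
    have hcab : za * zb = zb * za := hcent zb hzb za (hWc _ hb _ (hWP ha)).symm
    have hzab : za * zb ∈ Z := hmul za hza zb hzb hcab fun h => hab (by rw [h])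
    have hW' : π (za * zb) ∈ W := by rw [map_mul]; exact W.mul_mem ha hb
    have hone : Abelianization.of za = 1 := by
      have h1 := hconjZ za hza ha _ hzab hW'
      rw [map_mul, ← hconjZ za hza ha zb hzb hb] at h1
      exact left_eq_mul.1 h1
    intro z hz
    refine (QuotientGroup.eq_one_iff z).1 ?_
    obtain ⟨g, hg⟩ := hconj z hz
    have h1 := hconjZ za hza ha _ (hZc z hz g) hg
    rw [hone, map_mul, map_mul, map_inv, mul_comm (Abelianization.of g), mul_inv_cancel_right] at h1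
    exact h1.symm
  -- the lifts of `W`
  let E : Subgroup G :=
    { carrier := {g | π g ∈ W ∧ (g = 1 ∨ g ∈ Z)}
      one_mem' := ⟨by rw [map_one]; exact W.one_mem, Or.inl rfl⟩
      mul_mem' := by
        rintro x y ⟨hx, hx'⟩ ⟨hy, hy'⟩
        refine ⟨by rw [map_mul]; exact W.mul_mem hx hy, ?_⟩
        rcases hx' with rfl | hx'
        · rwa [one_mul]
        rcases hy' with rfl | hy'
        · rw [mul_one]; exact Or.inr hx'
        by_cases h : x = y
        · exact Or.inl (h ▸ (hZ2 x hx').1)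
        · exact Or.inr (hmul x hx' y hy' (hcent y hy' x (hWc _ hy _ (hWP hx)).symm) h)
      inv_mem' := by
        rintro x ⟨hx, hx'⟩
        refine ⟨by rw [map_inv]; exact W.inv_mem hx, ?_⟩
        rcases hx' with rfl | hx'
        · exact Or.inl inv_one
        · exact Or.inr ((inv_eq_of_mul_eq_one_left (hZ2 x hx').1).symm ▸ hx') }
  have huE : u ∉ E := fun h => h.2.elim hu1 huZ
  have hsplit : ∀ g : G, π g ∈ W → g ∉ E → g * u ∈ E := by
    intro g hg hgE
    by_cases hg1 : π g = 1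
    · rcases hker g hg1 with rfl | rfl
      · exact absurd E.one_mem hgE
      · exact hu2 ▸ E.one_mem
    · obtain ⟨z, hz, hzg⟩ := hlift _ hg hg1
      rcases hker (z⁻¹ * g) (by rw [map_mul, map_inv, hzg, inv_mul_cancel]) with h | h
      · exact absurd (show g ∈ E from ⟨hg, Or.inr (inv_mul_eq_one.1 h ▸ hz)⟩) hgE
      · refine ⟨by rwa [map_mul, hπu, mul_one], Or.inr ?_⟩
        rwa [show g * u = z by rw [show g = z * u by rw [← h, mul_inv_cancel_left], mul_assoc, hu2, mul_one]]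
  have hWcen : ∀ g : G, π g ∈ W → ∀ x ∈ k, g * x = x * g := by
    have hE : ∀ g ∈ E, ∀ x ∈ k, g * x = x * g := by
      rintro g ⟨hg, rfl | hg'⟩ x hx
      · rw [one_mul, mul_one]
      · exact (hcent g hg' x (hWc _ hg _ (hmem.1 hx)).symm).symm
    intro g hg x hx
    by_cases h : g ∈ E
    · exact hE g h x hx
    · have h1 := hE _ (hsplit g hg h) x hx
      rw [mul_assoc, huc x, ← mul_assoc, ← mul_assoc] at h1
      exact mul_right_cancel h1
  -- the form
  let χ : G → ZMod 2 := fun g => if g ∈ E then 0 else 1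
  have hχmul : ∀ g g' : G, π g ∈ W → π g' ∈ W → χ (g * g') = χ g + χ g' := by
    intro g g' hg hg'
    by_cases h : g ∈ E
    · simp [χ, h, E.mul_mem_cancel_left h]
    · by_cases h' : g' ∈ E
      · simp [χ, h, h', E.mul_mem_cancel_right h']
      · have h2 : g * g' ∈ E := by
          have h3 := E.mul_mem (hsplit g hg h) (hsplit g' hg' h')
          rwa [mul_assoc g u, ← mul_assoc u g', huc g', mul_assoc g' u u, hu2, mul_one] at h3
        simp [χ, h, h', h2]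
        rfl
  have hcW : ∀ x ∈ k, ∀ y ∈ k, π ⁅x, y⁆ ∈ W := fun x hx y hy => by
    rw [map_commutatorElement]; exact hcomm _ (hmem.1 hx) _ (hmem.1 hy)
  let f : G → G → ZMod 2 := fun x y => χ ⁅x, y⁆
  have haddl : ∀ x ∈ k, ∀ x' ∈ k, ∀ y ∈ k, f (x * x') y = f x y + f x' y := by
    intro x hx x' hx' y hy
    have h1 : ⁅x * x', y⁆ = x * ⁅x', y⁆ * x⁻¹ * ⁅x, y⁆ := by simp [commutatorElement_def, mul_assoc]
    have h2 : x * ⁅x', y⁆ * x⁻¹ = ⁅x', y⁆ := by
      rw [← hWcen _ (hcW x' hx' y hy) x hx, mul_inv_cancel_right]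
    show χ _ = _
    rw [h1, h2, hχmul _ _ (hcW x' hx' y hy) (hcW x hx y hy)]
    exact add_comm _ _
  have haddr : ∀ x ∈ k, ∀ y ∈ k, ∀ y' ∈ k, f x (y * y') = f x y + f x y' := by
    intro x hx y hy y' hy'
    have h1 : ⁅x, y * y'⁆ = ⁅x, y⁆ * (y * ⁅x, y'⁆ * y⁻¹) := by simp [commutatorElement_def, mul_assoc]
    have h2 : y * ⁅x, y'⁆ * y⁻¹ = ⁅x, y'⁆ := by
      rw [← hWcen _ (hcW x hx y' hy') y hy, mul_inv_cancel_right]
    show χ _ = _
    rw [h1, h2, hχmul _ _ (hcW x hx y hy) (hcW x hx y' hy')]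
  have hχ1 : χ 1 = 0 := by simp [χ]
  have hzl : ∀ w, π w ∈ W → ∀ y ∈ k, f w y = 0 := fun w hw y hy => by
    show χ _ = 0
    rw [commutatorElement_eq_one_iff_mul_comm.2 (hWcen w hw y hy), hχ1]
  have hzr : ∀ w, π w ∈ W → ∀ x ∈ k, f x w = 0 := fun w hw x hx => by
    show χ _ = 0
    rw [commutatorElement_eq_one_iff_mul_comm.2 (hWcen w hw x hx).symm, hχ1]
  have hχc : ∀ n : G, (∀ x ∈ Pb, π n * x * (π n)⁻¹ ∈ Pb) → ∀ g : G, π g ∈ W →
      χ (n * g * n⁻¹) = χ g := by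
    intro n hn g hg
    have hWn : ∀ g : G, π g ∈ W → π (n * g * n⁻¹) ∈ W := fun g hg => by
      rw [map_mul, map_mul, map_inv]
      exact hinv _ (hn _ (hWP hg)) (by rw [conj_mul, hW2 _ hg, mul_one, mul_inv_cancel])
    have hEn : ∀ g ∈ E, n * g * n⁻¹ ∈ E := by
      rintro g ⟨hg, hg'⟩
      refine ⟨hWn g hg, ?_⟩
      rcases hg' with rfl | hg'
      · exact Or.inl (by rw [mul_one, mul_inv_cancel])
      · exact Or.inr (hZc g hg' n)
    by_cases h : g ∈ E
    · simp [χ, h, hEn g h]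
    · have h1 := hEn _ (hsplit g hg h)
      rw [← conj_mul, show n * u * n⁻¹ = u by rw [← huc n, mul_inv_cancel_right]] at h1
      have h2 : n * g * n⁻¹ ∉ E := fun h' => huE ((E.mul_mem_cancel_left h').1 h1)
      simp [χ, h, h2]
  obtain ⟨d, rfl⟩ := hπ d
  obtain ⟨e, rfl⟩ := hπ e
  have hdk : ∀ n : G, (∀ x ∈ Pb, π n * x * (π n)⁻¹ ∈ Pb) → ∀ x ∈ k, n * x * n⁻¹ ∈ k := by
    intro n hn x hx
    rw [hmem, map_mul, map_mul, map_inv]
    exact hn _ (hmem.1 hx)
  have hfc : ∀ n : G, (∀ x ∈ Pb, π n * x * (π n)⁻¹ ∈ Pb) → ∀ x ∈ k, ∀ y ∈ k,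
      f (n * x * n⁻¹) (n * y * n⁻¹) = f x y := by
    intro n hn x hx y hy
    show χ _ = χ _
    rw [← hχc n hn ⁅x, y⁆ (hcW x hx y hy)]
    congr 1
    simp [commutatorElement_def, mul_assoc]
  have hD : ∀ x ∈ k, d * x * d⁻¹ ∈ k := hdk d hd
  -- the three-term identity
  have h3 : ∀ x ∈ k, ∀ y ∈ k, f x y + f x (d * y * d⁻¹) + f (d * x * d⁻¹) y = 0 := by
    intro x hx y hy
    have hex : ∀ x ∈ k, ∃ w, π w ∈ W ∧ x * (d * x * d⁻¹) = e * x * e⁻¹ * w := fun x hx =>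
      ⟨(e * x * e⁻¹)⁻¹ * (x * (d * x * d⁻¹)), by simpa using hde _ (hmem.1 hx),
        (mul_inv_cancel_left _ _).symm⟩
    obtain ⟨w, hw, hxw⟩ := hex x hx
    obtain ⟨w', hw', hyw⟩ := hex y hy
    have hEx := hdk e he x hx
    have hEy := hdk e he y hy
    have hwk : ∀ w, π w ∈ W → w ∈ k := fun w hw => hmem.2 (hWP hw)
    have h := haddl x hx _ (hD x hx) _ (k.mul_mem hy (hD y hy))
    rw [haddr x hx y hy _ (hD y hy), haddr _ (hD x hx) y hy _ (hD y hy), hxw, hyw,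
      haddl _ hEx w (hwk w hw) _ (k.mul_mem hEy (hwk w' hw')), hzl w hw _ (k.mul_mem hEy (hwk w' hw')),
      add_zero, haddr _ hEx _ hEy w' (hwk w' hw'), hzr w' hw' _ hEx, add_zero, hfc e he x hx y hy] at h
    exact add_four h.symm (hfc d hd x hx y hy)
  have hzero : ∀ x ∈ k, ∀ y ∈ k, f x y = 0 := by
    intro x₁ hx₁ y hy
    obtain ⟨x, hx, hw⟩ := hsur _ (hmem.1 hx₁)
    obtain ⟨x, rfl⟩ := hπ x
    replace hx : x ∈ k := hmem.2 hx
    set w := x₁⁻¹ * (x * (d * x * d⁻¹) * (d * (d * x * d⁻¹) * d⁻¹)) with hwdef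
    have hw' : π w ∈ W := by simpa [w] using hw
    have h1 : x * (d * x * d⁻¹) * (d * (d * x * d⁻¹) * d⁻¹) = x₁ * w :=
      (mul_inv_cancel_left _ _).symm
    have h2 := congrArg (fun t => f t y) h1
    simp only [haddl _ (k.mul_mem hx (hD x hx)) _ (hD _ (hD x hx)) y hy, haddl x hx _ (hD x hx) y hy,
      haddl x₁ hx₁ w (hmem.2 (hWP hw')) y hy, hzl w hw' y hy, add_zero] at h2
    rw [← h2]
    have h4 := h3 _ (hD x hx) y hy
    rw [hfc d hd x hx y hy] at h4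
    rw [← h4]
    ring
  have hcE : ⁅k, k⁆ ≤ E := by
    rw [Subgroup.commutator_le]
    intro x hx y hy
    by_contra h
    simpa [f, χ, h] using hzero x hx y hy
  exact huE (hcE (mem_commutator_of_central k hPi huc hu2
    (hmem.2 (hπu ▸ Pb.one_mem)) (hG' ▸ Subgroup.mem_top u)))

end Cfsg.Agent.Invol.BenderCover
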