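import Cfsg.Agent.Lib.Invol.BenderCover.CommuteLifts
import Cfsg.Agent.Lib.Invol.Core2.TwistBasic
import Cfsg.Agent.Lib.Fus.TightCriterion.Cover
import Cfsg.Agent.Lib.Invol.Core2.CentreBasics
import Cfsg.Agent.Lib.Local.CoreConsumers.Connected
import Cfsg.Agent.S2798

/-!
# A point stabiliser in a covered strongly embedded section with anticommuting lifts has index five

`K` is generated by involutions and has a central element `v` of order four with `v ^ 2 = u`; two involutions of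
`X` anticommute and the image of `X` in `K / ⟨v⟩` is strongly embedded. Then the section is `A₅` modulo its odd core,
which lies in `X`, and `X` has index five.
-/

set_option autoImplicit false
set_option linter.unusedSectionVars false
set_option linter.style.haveILetI false

namespace Cfsg.Agent.Invol.BenderCover

open Subgroup
open scoped commutatorElement

universe u

/-- A central extension by a 2-group of an odd group: the odd core covers the odd core of the quotient. -/
theorem exists_core_lift {K Q : Type u} [Group K] [Finite K] [Group Q] [Finite Q] (π : K →* Q)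
    (hπ : Function.Surjective π) (hc : ∀ z ∈ π.ker, ∀ x : K, z * x = x * z) (h2 : IsPGroup 2 π.ker) {g : K}
    (hg : π g ∈ Cfsg.pPrimeCore 2 Q) : ∃ n ∈ Cfsg.pPrimeCore 2 K, π n = π g := by
  classical
  haveI : Fact (Nat.Prime 2) := ⟨Nat.prime_two⟩
  haveI : (Cfsg.pPrimeCore 2 Q).Normal := Grp.pPrimeCore_isNormal
  set M := Cfsg.pPrimeCore 2 Q with hM
  set R := M.comap π with hR
  have hmo : Odd (Nat.card M) := Nat.coprime_two_right.1 Grp.pPrimeCore_coprime
  obtain ⟨k, hk⟩ := h2.exists_card_eq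
  set m := Nat.card M with hm
  -- the elements killed by `m`
  have hzero : ∀ z ∈ π.ker, z ^ m = 1 → z = 1 := fun z hz hzm => by
    have h1 : z ^ (2 ^ k) = 1 := by
      rw [← hk]
      exact congrArg Subtype.val (pow_card_eq_one' (x := (⟨z, hz⟩ : π.ker)))
    have h2 := Nat.Coprime.pow_left k (Nat.coprime_two_left.2 hmo)
    have h3 : z ^ (2 ^ k).gcd m = 1 := pow_gcd_eq_one.2 ⟨h1, hzm⟩
    rwa [h2.gcd_eq_one, pow_one] at h3
  have hpow : ∀ x ∈ R, x ^ m ∈ π.ker := fun x hx => by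
    rw [MonoidHom.mem_ker, map_pow]
    exact congrArg Subtype.val (pow_card_eq_one' (x := (⟨π x, hx⟩ : M)))
  -- every element has such a representative
  have hrep : ∀ x ∈ R, ∃ l ∈ R, l ^ m = 1 ∧ π l = π x := fun x hx => by
    have hco : Nat.Coprime m (2 ^ k) := (Nat.Coprime.pow_left k (Nat.coprime_two_left.2 hmo)).symm
    obtain ⟨⟨a, ha1, ha2⟩⟩ : Nonempty {a // a ≡ 1 [MOD m] ∧ a ≡ 0 [MOD 2 ^ k]} :=
      ⟨Nat.chineseRemainder hco 1 0⟩
    obtain ⟨b, hb⟩ := Nat.modEq_zero_iff_dvd.1 ha2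
    refine ⟨x ^ a, pow_mem hx a, ?_, ?_⟩
    · rw [← pow_mul, mul_comm, pow_mul, hb, pow_mul, ← hk]
      rw [show (x ^ m) ^ Nat.card π.ker = 1 from
        congrArg Subtype.val (pow_card_eq_one' (x := (⟨x ^ m, hpow x hx⟩ : π.ker))), one_pow]
    · rw [map_pow]
      have h1 : (π x) ^ m = 1 := congrArg Subtype.val (pow_card_eq_one' (x := (⟨π x, hx⟩ : M)))
      rw [← pow_mod_orderOf, show a % orderOf (π x) = 1 % orderOf (π x) from
        (ha1.of_dvd (orderOf_dvd_iff_pow_eq_one.2 h1)), pow_mod_orderOf, pow_one]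
  -- they form a subgroup
  have hmul : ∀ x ∈ R, x ^ m = 1 → ∀ y ∈ R, y ^ m = 1 → (x * y) ^ m = 1 := by
    let Z := π.ker.subgroupOf R
    haveI : Z.Normal := (inferInstance : π.ker.Normal).subgroupOf R
    have hle : π.ker ≤ R := fun z hz => by
      show π z ∈ M
      rw [MonoidHom.mem_ker.1 hz]
      exact one_mem _
    have hZc : Nat.card Z = 2 ^ k := by rw [Nat.card_congr (subgroupOfEquivOfLe hle).toEquiv, hk]
    have hZi : Z.index = m := by
      have hker : Z = (π.subgroupComap M).ker := by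
        ext x
        rw [MonoidHom.mem_ker, Subgroup.mem_subgroupOf, MonoidHom.mem_ker]
        exact ⟨fun h => Subtype.ext h, fun h => congrArg Subtype.val h⟩
      rw [hker, Subgroup.index_ker, MonoidHom.range_eq_top.2 (π.subgroupComap_surjective_of_surjective M hπ),
        Subgroup.card_top]
    obtain ⟨L, hL⟩ := Subgroup.exists_right_complement'_of_coprime (N := Z) (by
      rw [hZc, hZi]; exact Nat.Coprime.pow_left k (Nat.coprime_two_left.2 hmo))
    have hLm : Nat.card L = m := by rw [← hZi]; exact hL.symm.index_eq_card.symm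
    have hall : ∀ (x : K) (hx : x ∈ R), x ^ m = 1 → (⟨x, hx⟩ : R) ∈ L := fun x hx hxm => by
      obtain ⟨⟨z, l⟩, e⟩ := hL.2 ⟨x, hx⟩
      have e' : ((z : R) : K) * ((l : R) : K) = x := congrArg Subtype.val e
      have hzc : Commute ((z : R) : K) ((l : R) : K) := hc _ (mem_subgroupOf.1 z.2) _
      have hl : ((l : R) : K) ^ m = 1 := by
        rw [← hLm]
        exact congrArg (fun w : L => ((w : R) : K)) (pow_card_eq_one' (x := l))
      have hz : ((z : R) : K) = 1 := hzero _ (mem_subgroupOf.1 z.2) (by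
        have := hxm
        rwa [← e', hzc.mul_pow, hl, mul_one] at this)
      have : (⟨x, hx⟩ : R) = l := Subtype.ext (by show x = _; rw [← e', hz, one_mul])
      rw [this]
      exact l.2
    intro x hx hxm y hy hym
    have h1 := L.mul_mem (hall x hx hxm) (hall y hy hym)
    rw [← hLm]
    exact congrArg (fun w : L => ((w : R) : K)) (pow_card_eq_one' (x := (⟨_, h1⟩ : L)))
  let N : Subgroup K :=
    { carrier := {x | x ∈ R ∧ x ^ m = 1}
      one_mem' := ⟨one_mem _, one_pow _⟩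
      mul_mem' := fun {x y} hx hy => ⟨mul_mem hx.1 hy.1, hmul x hx.1 hx.2 y hy.1 hy.2⟩
      inv_mem' := fun {x} hx => ⟨inv_mem hx.1, by rw [inv_pow, hx.2, inv_one]⟩ }
  haveI : R.Normal := (inferInstance : M.Normal).comap π
  have hNn : N.Normal := ⟨fun x hx g => ⟨(inferInstance : R.Normal).conj_mem x hx.1 g, by
    rw [conj_pow, hx.2, mul_one, mul_inv_cancel]⟩⟩
  have hNo : (Nat.card N).Coprime 2 := by
    rw [Nat.coprime_two_right]
    refine Nat.not_even_iff_odd.1 fun hev => ?_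
    obtain ⟨t, ht⟩ := exists_prime_orderOf_dvd_card' (G := N) 2 hev.two_dvd
    have h1 : orderOf (t : K) ∣ m := orderOf_dvd_iff_pow_eq_one.2 t.2.2
    rw [Subgroup.orderOf_coe, ht] at h1
    exact (Nat.not_even_iff_odd.2 hmo) (even_iff_two_dvd.2 h1)
  obtain ⟨l, hl, hlm, hle⟩ := hrep g hg
  exact ⟨l, Grp.le_pPrimeCore hNn hNo ⟨hl, hlm⟩, hle⟩

/-- In a group of order 4 or 20 two commuting distinct involutions are not conjugate. -/
theorem not_conj_of_card {X : Type u} [Group X] [Finite X] (hX : Nat.card X = 4 ∨ Nat.card X = 20) {a b g : X}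
    (ha : orderOf a = 2) (hb : orderOf b = 2) (hne : b ≠ a) (hc : Commute a b) (hg : g * a * g⁻¹ = b) : False := by
  classical
  haveI : Fact (Nat.Prime 2) := ⟨Nat.prime_two⟩
  have h20 : Nat.card X ∣ 20 := by rcases hX with h | h <;> rw [h] <;> norm_num
  have haa := mul_self_of_orderOf_two ha
  have hbb := mul_self_of_orderOf_two hb
  have hE : IsPGroup 2 ↥(Subgroup.closure ({a, b} : Set X)) := by
    intro x
    refine ⟨1, Subtype.ext ?_⟩
    rw [pow_one, SubmonoidClass.coe_pow, OneMemClass.coe_one, pow_two]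
    have key : ∀ y ∈ Subgroup.closure ({a, b} : Set X), y = 1 ∨ y = a ∨ y = b ∨ y = a * b := by
      intro y hy
      induction hy using Subgroup.closure_induction_left with
      | one => exact Or.inl rfl
      | mul_left z hz w _ iw =>
        rcases hz with rfl | rfl <;> rcases iw with rfl | rfl | rfl | rfl <;>
          simp [haa, hbb, ← mul_assoc, hc.eq] <;> simp [mul_assoc, haa, hbb, hc.eq]
      | inv_mul_cancel z hz w _ iw =>
        rcases hz with rfl | rfl <;> rcases iw with rfl | rfl | rfl | rfl <;>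
          simp [inv_of_orderOf_two ha, inv_of_orderOf_two hb, haa, hbb, ← mul_assoc, hc.eq] <;>
            simp [mul_assoc, haa, hbb, hc.eq]
    rcases key x x.2 with e | e | e | e <;> rw [e]
    · exact one_mul 1
    · exact haa
    · exact hbb
    · calc a * b * (a * b) = a * (b * a) * b := by group
        _ = a * a * (b * b) := by rw [← hc.eq]; group
        _ = 1 := by rw [haa, hbb, one_mul]
  obtain ⟨P, hP⟩ := hE.exists_le_sylow
  have haP : a ∈ (P : Subgroup X) := hP (subset_closure (Set.mem_insert _ _))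
  have hbP : b ∈ (P : Subgroup X) := hP (subset_closure (Set.mem_insert_of_mem _ rfl))
  obtain ⟨k, hk⟩ := P.isPGroup'.exists_card_eq
  have hk2 : k ≤ 2 := by
    have h1 : 2 ^ k ∣ 20 := hk ▸ (P : Subgroup X).card_subgroup_dvd_card.trans h20
    by_contra hk2
    exact absurd ((pow_dvd_pow 2 (show 3 ≤ k by omega)).trans h1) (by norm_num)
  have hcomm : ∀ p ∈ (P : Subgroup X), ∀ q ∈ (P : Subgroup X), p * q = q * p := by
    interval_cases k
    · intro p hp q _
      rw [pow_zero, Subgroup.card_eq_one] at hk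
      rw [hk, mem_bot] at hp
      rw [hp, one_mul, mul_one]
    · intro p hp q hq
      haveI : IsCyclic (P : Subgroup X) := isCyclic_of_prime_card (hk.trans (pow_one 2))
      exact congrArg Subtype.val ((IsCyclic.commutative (α := (P : Subgroup X))).is_comm.comm (⟨p, hp⟩ : (P : Subgroup X)) ⟨q, hq⟩)
    · intro p hp q hq
      exact congrArg Subtype.val (((IsPGroup.isMulCommutative_of_card_eq_prime_sq hk).is_comm).comm
        (⟨p, hp⟩ : (P : Subgroup X)) ⟨q, hq⟩)
  haveI : IsMulCommutative (P : Subgroup X) := ⟨⟨fun p q => Subtype.ext (hcomm p p.2 q q.2)⟩⟩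
  obtain ⟨n, hn, he⟩ := P.conj_eq_normalizer_conj_of_mem a g⁻¹ haP (by rw [inv_inv, hg]; exact hbP)
  rw [inv_inv, hg] at he
  -- the odd part of `n`
  have h5 : n ^ 5 ∈ (P : Subgroup X) := by
    have hp5 : IsPGroup 2 ↥(zpowers (n ^ 5)) := by
      obtain ⟨i, -, hi⟩ := (Nat.dvd_prime_pow Nat.prime_two).1 (show orderOf (n ^ 5) ∣ 2 ^ 2 from
        orderOf_dvd_of_pow_eq_one (by
          rw [← pow_mul]
          exact orderOf_dvd_iff_pow_eq_one.1 ((orderOf_dvd_natCard n).trans h20)))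
      exact IsPGroup.of_card (n := i) (by rw [Nat.card_zpowers, hi])
    have hle : zpowers (n ^ 5) ≤ normalizer ((P : Subgroup X) : Set X) := zpowers_le.2 (pow_mem hn 5)
    have := hp5.inf_normalizer_sylow P
    have h1 : n ^ 5 ∈ zpowers (n ^ 5) ⊓ (P : Subgroup X) := this ▸ ⟨mem_zpowers _, hle (mem_zpowers _)⟩
    exact h1.2
  have hfix5 : Commute (n ^ 5) a := hcomm _ h5 a haP
  let f : X → X := fun x => n⁻¹ * x * n
  have hfa : n⁻¹ * a * n = b := he.symm
  have hn' : ∀ x ∈ (P : Subgroup X), n⁻¹ * x * n ∈ (P : Subgroup X) := fun x hx =>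
    (mem_normalizer_iff''.1 hn x).1 hx
  have hfb : n⁻¹ * b * n ∈ (P : Subgroup X) := hn' b hbP
  have hfb2 : orderOf (n⁻¹ * b * n) = 2 := by
    have := orderOf_conj_eq n⁻¹ b
    rwa [inv_inv, hb] at this
  have hab2 : a * b ≠ 1 := fun e => hne (by
    rw [← inv_of_orderOf_two ha, eq_inv_of_mul_eq_one_right e])
  -- the involutions of `P`
  have hfour : ∀ x ∈ (P : Subgroup X), x ≠ 1 → x = a ∨ x = b ∨ x = a * b := by
    intro x hx hx1
    by_contra hno
    push Not at hno
    haveI : Fintype (P : Subgroup X) := Fintype.ofFinite _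
    let T : Finset (P : Subgroup X) := {1, ⟨a, haP⟩, ⟨b, hbP⟩, ⟨a * b, mul_mem haP hbP⟩, ⟨x, hx⟩}
    have hT : T.card = 5 := by
      have e1 := ne_one_of_orderOf_two ha
      have e2 := ne_one_of_orderOf_two hb
      have e3 : a ≠ a * b := fun e => e2 (mul_eq_left.1 e.symm)
      have e4 : b ≠ a * b := fun e => e1 (mul_eq_right.1 e.symm)
      simp [T, Finset.card_insert_of_notMem, Subtype.ext_iff, e1.symm, e2.symm, hab2.symm, hne.symm, e3, e4,
        hx1.symm, hno.1.symm, hno.2.1.symm, hno.2.2.symm]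
    have h1 := Finset.card_le_univ T
    rw [hT, ← Nat.card_eq_fintype_card, hk] at h1
    have : 2 ^ k ≤ 2 ^ 2 := Nat.pow_le_pow_right two_pos hk2
    omega
  have hstep : ∀ {i : ℕ} {x y : X}, (n ^ i)⁻¹ * a * n ^ i = x → n⁻¹ * x * n = y →
      (n ^ (i + 1))⁻¹ * a * n ^ (i + 1) = y := fun {i x y} h1 h2 => by
    rw [← h2, ← h1, pow_succ]; group
  have h0 : (n ^ 1)⁻¹ * a * n ^ 1 = b := by rw [pow_one]; exact hfa
  have hfix : ∀ {i : ℕ}, (n ^ i)⁻¹ * a * n ^ i = a → Commute (n ^ i) a := fun {i} h =>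
    calc n ^ i * a = n ^ i * ((n ^ i)⁻¹ * a * n ^ i) := by rw [h]
      _ = a * n ^ i := by group
  refine hne ?_
  rw [← hfa]
  suffices hc : Commute n a by rw [mul_assoc, ← hc.eq, inv_mul_cancel_left]
  rcases hfour _ hfb (ne_one_of_orderOf_two hfb2) with e | e | e
  · have h2 := hfix (hstep h0 e)
    have h4 : Commute ((n ^ 2) ^ 2) a := h2.pow_left 2
    have h6 := (h4.inv_left).mul_left hfix5
    rwa [← pow_mul, show (n ^ (2 * 2))⁻¹ * n ^ 5 = n by group] at h6
  · exact absurd (mul_left_cancel (mul_right_cancel (hfa.trans e.symm))) hne.symm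
  · have h3 := hfix (hstep (hstep h0 e) (show n⁻¹ * (a * b) * n = a by
      calc n⁻¹ * (a * b) * n = n⁻¹ * a * n * (n⁻¹ * b * n) := by group
        _ = b * (a * b) := by rw [hfa, e]
        _ = a := by rw [← mul_assoc, ← hc.eq, mul_assoc, hbb, mul_one]))
    have h9 : Commute ((n ^ 5) ^ 2) a := hfix5.pow_left 2
    have h6 := ((h3.pow_left 3).inv_left).mul_left h9
    rwa [← pow_mul, ← pow_mul, show (n ^ ((1 + 1 + 1) * 3))⁻¹ * n ^ (5 * 2) = n by group] at h6

/-- The point stabiliser has index five. -/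
theorem index_eq_five {K : Type u} [Group K] [Finite K] (X : Subgroup K) {u v a b : K}
    (hv : ∀ x : K, Commute x v) (hvv : v * v = u) (hu : orderOf u = 2) (hvX : v ∈ X)
    (hgen : Subgroup.closure {y : K | orderOf y = 2} = ⊤)
    (ha : orderOf a = 2) (haX : a ∈ X) (hb : orderOf b = 2) (hbX : b ∈ X) (hab : b * a = a * b * u)
    (hone : ∀ y : K, orderOf y = 2 → y ≠ u → ∃ k : K, k * a * k⁻¹ = y ∨ k * a * k⁻¹ = y * u)
    (hfix : ∀ y ∈ X, orderOf y = 2 → y ≠ u → ∀ k : K, k * y * k⁻¹ ∈ X → k ∈ X)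
    [(zpowers v).Normal] (hSE : Cfsg.IsStronglyEmbedded (X.map (QuotientGroup.mk' (zpowers v)))) :
    X.index = 5 := by
  classical
  haveI : Fact (Nat.Prime 2) := ⟨Nat.prime_two⟩
  set π := QuotientGroup.mk' (zpowers v) with hπdef
  have hπs : Function.Surjective π := QuotientGroup.mk'_surjective _
  have hker : ∀ {x : K}, π x = 1 ↔ x ∈ zpowers v := fun {x} => QuotientGroup.eq_one_iff x
  have huu := mul_self_of_orderOf_two hu
  have huc : ∀ x : K, Commute x u := fun x => hvv ▸ (hv x).mul_right (hv x)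
  have hu1 := ne_one_of_orderOf_two hu
  have haa := mul_self_of_orderOf_two ha
  have hbb := mul_self_of_orderOf_two hb
  have hkcen : ∀ {x : K}, π x = 1 → ∀ y : K, x * y = y * x := fun {x} h y => by
    obtain ⟨i, rfl⟩ := mem_zpowers_iff.1 (hker.1 h)
    exact ((hv y).zpow_right i).symm.eq
  have hkerX : π.ker ≤ X := fun x hx => (zpowers_le.2 hvX) (hker.1 hx)
  have hkerp : IsPGroup 2 π.ker := by
    intro x
    refine ⟨2, Subtype.ext ?_⟩
    obtain ⟨i, hi⟩ := mem_zpowers_iff.1 (hker.1 x.2)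
    rw [SubmonoidClass.coe_pow, OneMemClass.coe_one, ← hi, ← zpow_natCast, ← zpow_mul, mul_comm, zpow_mul,
      zpow_natCast]
    rw [show (2 : ℕ) ^ 2 = 2 * 2 from rfl, pow_mul, pow_two v, hvv, pow_two, huu, one_zpow]
  -- no power of `v` moves `a`; none makes `a` and `b` commute
  have hnab : ∀ {x y : K}, π x = π y → Commute y a → Commute x a := fun {x y} h hy => by
    have h1 := hkcen (show π (x * y⁻¹) = 1 by rw [map_mul, map_inv, h, mul_inv_cancel]) a
    have : Commute (x * y⁻¹) a := h1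
    simpa using this.mul_left hy
  have hncomm : ¬ Commute b a := fun h => hu1 (by
    have h1 : a * b * 1 = a * b * u := by rw [mul_one, ← hab, h.eq]
    exact (mul_left_cancel h1).symm)
  have hπa : π a ≠ 1 := fun e => hncomm (Commute.symm (hkcen e b))
  have hπb : π b ≠ 1 := fun e => hncomm (hkcen e a)
  have hπne : π b ≠ π a := fun e => hncomm (hnab e (Commute.refl a))
  set p := π a with hp
  set q := π b with hq
  have hp2 : orderOf p = 2 := orderOf_two_iff.2 ⟨by rw [hp, ← map_mul, haa, map_one], hπa⟩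
  have hq2 : orderOf q = 2 := orderOf_two_iff.2 ⟨by rw [hq, ← map_mul, hbb, map_one], hπb⟩
  have hpq : Commute q p := by
    show π b * π a = π a * π b
    rw [← map_mul, hab, map_mul, (hker.2 (hvv ▸ mul_mem (mem_zpowers v) (mem_zpowers v)) : π u = 1), mul_one,
      map_mul]
  set X₁ := X.map π with hX₁
  have hmem : ∀ {x : K}, π x ∈ X₁ → x ∈ X := fun {x} ⟨y, hy, e⟩ => by
    have h1 : y⁻¹ * x ∈ X := hkerX (by rw [MonoidHom.mem_ker, map_mul, map_inv, e, inv_mul_cancel])
    simpa using mul_mem hy h1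
  -- the third involution
  set d := a * b * v with hd
  have hd2 : orderOf d = 2 := orderOf_two_iff.2 ⟨by
    calc a * b * v * (a * b * v) = a * b * (v * (a * b)) * v := by group
      _ = a * b * (a * b) * (v * v) := by rw [← (hv (a * b)).eq]; group
      _ = a * (b * a) * b * u := by rw [hvv]; group
      _ = a * a * b * (u * b) * u := by rw [hab]; group
      _ = a * a * (b * b) * (u * u) := by rw [← (huc b).eq]; group
      _ = 1 := by rw [haa, hbb, huu]; group, fun e => hπne (by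
    have h1 : π a * π b = 1 := by
      have h2 : π (a * b * v) = π a * π b := by
        rw [map_mul, (hker.2 (mem_zpowers v) : π v = 1), mul_one, map_mul]
      rw [← h2, show a * b * v = 1 from e, map_one]
    rw [← hp, ← hq] at h1
    rw [← inv_of_orderOf_two hp2]
    exact eq_inv_of_mul_eq_one_right h1)⟩
  have hdX : d ∈ X := mul_mem (mul_mem haX hbX) hvX
  have hπd : π d = q * p := by
    rw [hd, map_mul, (hker.2 (mem_zpowers v) : π v = 1), mul_one, map_mul, hpq.eq]
  have hdu : d ≠ u := fun e => hπne (by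
    have h1 : q * p = 1 := by rw [← hπd, e, hker.2 (hvv ▸ mul_mem (mem_zpowers v) (mem_zpowers v))]
    rw [← inv_of_orderOf_two hp2]
    exact eq_inv_of_mul_eq_one_left h1)
  -- the core lies in the stabiliser
  haveI : (Cfsg.pPrimeCore 2 (K ⧸ zpowers v)).Normal := Grp.pPrimeCore_isNormal
  set O := Cfsg.pPrimeCore 2 (K ⧸ zpowers v) with hO
  have hOo : Odd (Nat.card O) := Nat.coprime_two_right.1 Grp.pPrimeCore_coprime
  have hu' : ∀ {y : K}, orderOf y = 2 → y ∈ X → y ≠ u → ∀ x ∈ centralizer ({π y} : Set (K ⧸ zpowers v)),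
      x ∈ X₁ := by
    intro y hy hyX hyu x hx
    obtain ⟨k, rfl⟩ := hπs x
    refine mem_map_of_mem π (hfix y hyX hy hyu k ?_)
    have h1 : π (k * y * k⁻¹) = π y := by
      rw [map_mul, map_mul, map_inv, mem_centralizer_singleton_iff.1 hx, mul_inv_cancel_right]
    exact hmem (h1 ▸ mem_map_of_mem π hyX)
  have hau : a ≠ u := fun e => hncomm (e ▸ huc b)
  have hbu : b ≠ u := fun e => hncomm (e ▸ (huc a).symm)
  have hOX : O ≤ X₁ := Core2.le_of_four hOo hp2 hq2 hπne hpq
    (mem_normalizer_fintype fun o ho => (inferInstance : O.Normal).conj_mem o ho p)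
    (mem_normalizer_fintype fun o ho => (inferInstance : O.Normal).conj_mem o ho q)
    (fun x hx => hu' ha haX hau x hx.2) (fun x hx => hu' hb hbX hbu x hx.2)
    (fun x hx => hu' hd2 hdX hdu x (hπd ▸ hx.2))
  -- Bender's theorem
  have hXp : Cfsg.IsStronglyPEmbedded 2 X₁ := Invol.isStronglyPEmbedded_iff.2
    ⟨even_iff_two_dvd.1 hSE.2.1, hSE.1, fun g hg h =>
      Nat.not_even_iff_odd.2 (hSE.2.2 g hg) (even_iff_two_dvd.2 h)⟩
  set ρ := QuotientGroup.mk' O with hρ
  have hρs : Function.Surjective ρ := QuotientGroup.mk'_surjective _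
  have hρne : ∀ {x : K ⧸ zpowers v}, x * x = 1 → x ≠ 1 → ρ x ≠ 1 := fun {x} hxx hx1 e =>
    (Nat.not_even_iff_odd.2 hOo) (even_iff_two_dvd.2
      ((orderOf_two_iff.2 ⟨hxx, hx1⟩) ▸ O.orderOf_dvd_natCard ((QuotientGroup.eq_one_iff x).1 e)))
  rcases Cfsg.Agent.S2798.result X₁ hXp with hr | hbend
  · exact absurd ((hr p hp2).2 q (mem_centralizer_singleton_iff.2 hpq.eq) hq2) hπne
  have hgenQ : Subgroup.closure ((ρ.comp π) '' {y : K | orderOf y = 2}) = ⊤ := by
    rw [← MonoidHom.map_closure, hgen, ← MonoidHom.range_eq_map]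
    exact MonoidHom.range_eq_top.2 (hρs.comp hπs)
  have hpec : Cfsg.pElementClosure 2 (⊤ : Subgroup ((K ⧸ zpowers v) ⧸ O)) = ⊤ :=
    Fus.Tight.pElementClosure_eq_top hgenQ (by
      rintro _ ⟨y, hy, rfl⟩
      rw [← map_mul, mul_self_of_orderOf_two hy, map_one])
  let e : ↥(Cfsg.pElementClosure 2 (⊤ : Subgroup ((K ⧸ zpowers v) ⧸ O))) ≃* (K ⧸ zpowers v) ⧸ O :=
    (MulEquiv.subgroupCongr hpec).trans Subgroup.topEquiv
  have hbend' : (∃ (F : Type) (_ : Field F) (_ : Fintype F), CharP F 2 ∧ 4 ≤ Fintype.card F ∧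
        Nonempty ((K ⧸ zpowers v) ⧸ O ≃* Matrix.SpecialLinearGroup (Fin 2) F)) ∨
      (∃ (F : Type) (_ : Field F) (_ : Fintype F) (q : ℕ), Even q ∧ 4 ≤ q ∧
        Fintype.card F = q ^ 2 ∧ Nonempty ((K ⧸ zpowers v) ⧸ O ≃* Cfsg.PSU 3 F q)) ∨
      Cfsg.Lie.IsoSuzuki ((K ⧸ zpowers v) ⧸ O) := by
    rcases hbend with ⟨F, i1, i2, hc, h4, ⟨f⟩⟩ | ⟨F, i1, i2, r, hr, h4, hF, ⟨f⟩⟩ | ⟨F, i1, i2, m, hm, hF, ⟨f⟩⟩
    · exact Or.inl ⟨F, i1, i2, hc, h4, ⟨e.symm.trans f⟩⟩
    · exact Or.inr (Or.inl ⟨F, i1, i2, r, hr, h4, hF, ⟨e.symm.trans f⟩⟩)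
    · exact Or.inr (Or.inr ⟨F, i1, i2, m, hm, hF, ⟨e.symm.trans f⟩⟩)
  -- the central extension
  haveI : (Cfsg.pPrimeCore 2 K).Normal := Grp.pPrimeCore_isNormal
  set N := Cfsg.pPrimeCore 2 K with hN
  have hNle : N ≤ (ρ.comp π).ker := fun x hx => (QuotientGroup.eq_one_iff _).2 (by
    have hn : (N.map π).Normal := (inferInstance : N.Normal).map π hπs
    exact Grp.le_pPrimeCore hn (Grp.pPrimeCore_coprime.of_dvd_left (card_map_dvd _ π)) (mem_map_of_mem π hx))
  set τ := QuotientGroup.lift N (ρ.comp π) hNle with hτ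
  have hτs : Function.Surjective τ := fun z => by
    obtain ⟨y, rfl⟩ := hρs z
    obtain ⟨x, rfl⟩ := hπs y
    exact ⟨QuotientGroup.mk x, rfl⟩
  have hτk : ∀ g, τ g = 1 → ∀ x : K ⧸ N, g * x = x * g := by
    intro g hg x
    obtain ⟨g, rfl⟩ := QuotientGroup.mk'_surjective N g
    obtain ⟨x, rfl⟩ := QuotientGroup.mk'_surjective N x
    obtain ⟨l, hl, hle⟩ := exists_core_lift π hπs (fun z hz y => hkcen hz y) hkerp
      ((QuotientGroup.eq_one_iff (π g)).1 hg)
    have h1 : QuotientGroup.mk' N g = QuotientGroup.mk' N (g * l⁻¹) := by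
      rw [map_mul, show QuotientGroup.mk' N l⁻¹ = 1 from (QuotientGroup.eq_one_iff l⁻¹).2 (inv_mem hl), mul_one]
    rw [h1, ← map_mul, ← map_mul,
      hkcen (show π (g * l⁻¹) = 1 by rw [map_mul, map_inv, hle, mul_inv_cancel]) x]
  have hlift : QuotientGroup.mk' N a * QuotientGroup.mk' N b ≠ QuotientGroup.mk' N b * QuotientGroup.mk' N a := by
    intro h
    have h1 : QuotientGroup.mk' N u = 1 := by
      have h2 := h
      rw [← map_mul, ← map_mul, hab, map_mul _ (a * b) u] at h2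
      exact left_eq_mul.1 h2
    exact (Nat.not_even_iff_odd.2 (Nat.coprime_two_right.1 Grp.pPrimeCore_coprime))
      (even_iff_two_dvd.2 (hu ▸ N.orderOf_dvd_natCard ((QuotientGroup.eq_one_iff u).1 h1)))
  have hP : ρ p * ρ p = 1 := by rw [← map_mul, mul_self_of_orderOf_two hp2, map_one]
  have hQ : ρ q * ρ q = 1 := by rw [← map_mul, mul_self_of_orderOf_two hq2, map_one]
  have hPQ : ρ p * ρ q = ρ q * ρ p := (hpq.symm.map ρ).eq
  rcases commute_or_four τ hτs hτk hbend' (x := QuotientGroup.mk' N a) (y := QuotientGroup.mk' N b)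
    hP hQ hPQ with h | ⟨F, i1, i2, hF, ⟨f⟩⟩
  · exact absurd h hlift
  have hcard : Nat.card ((K ⧸ zpowers v) ⧸ O) = 60 := by
    rw [Nat.card_congr f.toEquiv, Lie.SympWreath.natCard_SL2, hF]; norm_num
  set Y := X₁.map ρ with hY
  have hidx : Y.index = X.index := by
    rw [hY, index_map_eq _ hρs (by rw [hρ, QuotientGroup.ker_mk']; exact hOX), hX₁, index_map_eq _ hπs hkerX]
  -- the image of the stabiliser
  have hY1 : Y ≠ ⊤ := fun h => hSE.1 (by
    have h1 := congrArg Subgroup.index h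
    rw [hY, index_map_eq _ hρs (by rw [hρ, QuotientGroup.ker_mk']; exact hOX), index_top] at h1
    exact index_eq_one.1 h1)
  obtain ⟨k, hk⟩ := hone b hb hbu
  have hkX : k ∈ X := hfix a haX ha hau k (by
    rcases hk with hk | hk <;> rw [hk]
    · exact hbX
    · exact mul_mem hbX (hvv ▸ mul_mem hvX hvX))
  have hkpq : ρ (π k) * ρ p * (ρ (π k))⁻¹ = ρ q := by
    have hπu : π u = 1 := hker.2 (hvv ▸ mul_mem (mem_zpowers v) (mem_zpowers v))
    rw [← map_mul, ← map_inv, ← map_mul, hp, ← map_mul, ← map_inv, ← map_mul]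
    rcases hk with hk | hk <;> rw [hk]
    rw [map_mul, hπu, mul_one]
  have hP2 : orderOf (ρ p) = 2 := orderOf_two_iff.2 ⟨hP, hρne (mul_self_of_orderOf_two hp2) hπa⟩
  have hQ2 : orderOf (ρ q) = 2 := orderOf_two_iff.2 ⟨hQ, hρne (mul_self_of_orderOf_two hq2) hπb⟩
  have hne : ρ q ≠ ρ p := fun e => by
    refine hρne (x := q * p) ?_ ?_ (by rw [map_mul, e, hP])
    · rw [← hπd, ← map_mul, mul_self_of_orderOf_two hd2, map_one]
    · exact fun h => hπne ((eq_inv_of_mul_eq_one_left h).trans (inv_of_orderOf_two hp2))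
  have hpY : ρ p ∈ Y := mem_map_of_mem ρ (mem_map_of_mem π haX)
  have hqY : ρ q ∈ Y := mem_map_of_mem ρ (mem_map_of_mem π hbX)
  -- the order is 12
  have hdvd : Nat.card Y * Y.index = 60 := hcard ▸ Y.card_mul_index
  have hfour : 4 ∣ Nat.card Y := by
    obtain ⟨V, hV, hpV, hqV, hVle⟩ := CoreConsumers.exists_klein_of_commute hP2 hQ2 hne.symm hPQ
    exact hV.card_four ▸ card_dvd_of_le (hVle.trans (sup_le (zpowers_le.2 hpY) (zpowers_le.2 hqY)))
  have hnot : ¬ (Nat.card Y = 4 ∨ Nat.card Y = 20) := fun h =>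
    not_conj_of_card h (a := (⟨ρ p, hpY⟩ : Y)) (b := ⟨ρ q, hqY⟩)
      (g := ⟨ρ (π k), mem_map_of_mem ρ (mem_map_of_mem π hkX)⟩)
      (by rw [Subgroup.orderOf_mk]; exact hP2) (by rw [Subgroup.orderOf_mk]; exact hQ2)
      (fun e => hne (congrArg Subtype.val e)) (Subtype.ext hPQ) (Subtype.ext hkpq)
  have hi1 : Y.index ≠ 1 := fun h => hY1 (index_eq_one.1 h)
  obtain ⟨c, hc⟩ := hfour
  rw [hc] at hdvd hnot
  have hd15 : c * Y.index = 15 := by nlinarith
  have hc' : c ∣ 15 := Dvd.intro _ hd15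
  have hcle : c ≤ 15 := Nat.le_of_dvd (by norm_num) hc'
  rw [← hidx]
  interval_cases c <;> omega

end Cfsg.Agent.Invol.BenderCover
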